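import Cfsg.Agent.Lib.Recog.CIT.NoSection
import Cfsg.Agent.Lib.Classical.PSLSimple
import Cfsg.Agent.Lib.Classical.Order

/-!
Data on `PSL₂(7)`, `PSL₂(9)` and `PSL₃(4)`.
-/

set_option autoImplicit false
set_option linter.dupNamespace false
set_option linter.unusedSectionVars false
set_option linter.style.haveILetI false

namespace CfsgLib.Recog.TwoR.Cons

open Matrix

variable {F : Type*} [Field F] [Fintype F]

theorem card_psl_seven (hF : Fintype.card F = 7) :
    Nat.card (ProjectiveSpecialLinearGroup (Fin 2) F) = 168 := by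
  rw [Classical.card_PSL_two, Nat.card_eq_fintype_card, hF]; rfl

theorem card_psl_nine (hF : Fintype.card F = 9) :
    Nat.card (ProjectiveSpecialLinearGroup (Fin 2) F) = 360 := by
  rw [Classical.card_PSL_two, Nat.card_eq_fintype_card, hF]; rfl

theorem card_psl_three_four (hF : Fintype.card F = 4) :
    Nat.card (ProjectiveSpecialLinearGroup (Fin 3) F) = 20160 := by
  rw [Classical.card_PSL_fin 3 (by norm_num), Classical.card_SL_fin',
    Nat.card_eq_fintype_card, hF]
  norm_num [Finset.prod_range_succ]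

theorem charP_of_card' {p n : ℕ} (hp : p.Prime) (hn : n ≠ 0) (hF : Fintype.card F = p ^ n) :
    CharP F p := by
  obtain ⟨r, hr⟩ := CharP.exists F
  obtain ⟨k, hrp, hk⟩ := FiniteField.card F r
  have : p ∣ r ^ (k : ℕ) := hk ▸ hF ▸ dvd_pow_self p hn
  exact ((Nat.prime_dvd_prime_iff_eq hp hrp).1 (hp.dvd_of_dvd_pow this)) ▸ hr

/-- If `-1` is a square, every element of `PSL₂` is conjugate to its inverse. -/
theorem exists_conj_inv {i : F} (hi : i * i = -1)
    (x : ProjectiveSpecialLinearGroup (Fin 2) F) :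
    ∃ s : ProjectiveSpecialLinearGroup (Fin 2) F, s * x * s⁻¹ = x⁻¹ := by
  obtain ⟨g, rfl⟩ := QuotientGroup.mk'_surjective _ x
  set A := (g : Matrix (Fin 2) (Fin 2) F) with hA
  have hdet : A 0 0 * A 1 1 - A 0 1 * A 1 0 = 1 := by
    rw [← Matrix.det_fin_two]; exact g.2
  obtain ⟨a, b, c, h1, h2⟩ : ∃ a b c : F, -(a * a) - b * c = 1 ∧
      a * (A 0 0 - A 1 1) + b * A 1 0 + c * A 0 1 = 0 := by
    by_cases h10 : A 1 0 = 0
    · by_cases h01 : A 0 1 = 0
      · exact ⟨0, 1, -1, by ring, by rw [h10, h01]; ring⟩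
      · exact ⟨i, 0, -(i * (A 0 0 - A 1 1)) / A 0 1, by rw [hi]; ring,
          by rw [div_mul_cancel₀ _ h01]; ring⟩
    · exact ⟨i, -(i * (A 0 0 - A 1 1)) / A 1 0, 0, by rw [hi]; ring,
        by rw [div_mul_cancel₀ _ h10]; ring⟩
  let s : Matrix.SpecialLinearGroup (Fin 2) F := ⟨!![a, b; c, -a], by
    rw [Matrix.det_fin_two_of]; linear_combination h1⟩
  refine ⟨QuotientGroup.mk' _ s, ?_⟩
  rw [mul_inv_eq_iff_eq_mul, ← map_mul, ← map_inv, ← map_mul]
  congr 1
  refine Matrix.SpecialLinearGroup.ext _ _ fun j k => ?_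
  rw [Matrix.SpecialLinearGroup.coe_mul, Matrix.SpecialLinearGroup.coe_mul, Matrix.SpecialLinearGroup.coe_inv,
    Matrix.adjugate_fin_two]
  fin_cases j <;> fin_cases k <;> simp [s, Matrix.mul_apply, Fin.sum_univ_two, ← hA] <;>
    first | linear_combination h2 | linear_combination -h2 | linear_combination (0 : F) * h2

/-- In a field of nine elements `-1` is a square. -/
theorem exists_sq_neg_one (hF : Fintype.card F = 9) : ∃ i : F, i * i = -1 := by
  obtain ⟨i, hi⟩ : IsSquare (-1 : F) := FiniteField.isSquare_neg_one_iff.2 (by rw [hF]; norm_num)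
  exact ⟨i, hi.symm⟩

theorem scalar_of_map {n : ℕ} {R : Type*} [CommRing R] {f : R →+* F} (hf : Function.Injective f)
    {M : Matrix.SpecialLinearGroup (Fin n) R}
    (h : Matrix.SpecialLinearGroup.map f M ∈ Subgroup.center (Matrix.SpecialLinearGroup (Fin n) F)) :
    ∀ i j, (i ≠ j → (M : Matrix (Fin n) (Fin n) R) i j = 0) ∧
      (M : Matrix (Fin n) (Fin n) R) i i = (M : Matrix (Fin n) (Fin n) R) j j := by
  obtain ⟨c, -, hc⟩ := Matrix.SpecialLinearGroup.mem_center_iff.1 h
  intro i j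
  have e : ∀ k l, f ((M : Matrix (Fin n) (Fin n) R) k l) = scalar (Fin n) c k l := fun k l => by
    rw [hc]; rfl
  refine ⟨fun hij => hf ?_, hf ?_⟩
  · rw [e, map_zero, scalar_apply, diagonal_apply_ne _ hij]
  · rw [e, e]; simp [scalar_apply]

/-- A pair generating a Frobenius group, carried into `PSL` over a larger ring of coefficients. -/
theorem exists_frob {n : ℕ} {R : Type*} [CommRing R] {f : R →+* F} (hf : Function.Injective f)
    {p j : ℕ} (hp : p.Prime) (hj : j < p) (hj2 : 2 ≤ j) (M N : Matrix.SpecialLinearGroup (Fin n) R)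
    (hM : M ^ p = 1) (hN : N ^ 3 = 1) (hrel : N * M * N⁻¹ = M ^ j) {i₀ j₀ : Fin n} (hne : i₀ ≠ j₀)
    (hM0 : (M : Matrix (Fin n) (Fin n) R) i₀ j₀ ≠ 0) :
    ∃ x a : ProjectiveSpecialLinearGroup (Fin n) F, orderOf x = p ∧ Odd (orderOf a) ∧
      a * x * a⁻¹ = x ^ j ∧ x ^ j ≠ x := by
  set φ : Matrix.SpecialLinearGroup (Fin n) R →* ProjectiveSpecialLinearGroup (Fin n) F :=
    (QuotientGroup.mk' _).comp (Matrix.SpecialLinearGroup.map f) with hφ
  have hx : orderOf (φ M) = p := by
    haveI := Fact.mk hp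
    refine orderOf_eq_prime (by rw [← map_pow, hM, map_one]) fun h => hM0 ?_
    exact ((scalar_of_map hf ((QuotientGroup.eq_one_iff _).1 h)) i₀ j₀).1 hne
  refine ⟨φ M, φ N, hx, ?_, by rw [← map_inv, ← map_mul, ← map_mul, hrel, map_pow], fun h => ?_⟩
  · have h3 : orderOf (φ N) ∣ 3 := orderOf_dvd_of_pow_eq_one (by rw [← map_pow, hN, map_one])
    exact Odd.of_dvd_nat (by decide) h3
  · have h1 : φ M ^ j = φ M ^ 1 := by rw [pow_one]; exact h
    have := (pow_eq_pow_iff_modEq.1 h1)
    rw [hx, Nat.ModEq, Nat.mod_eq_of_lt hj, Nat.mod_eq_of_lt hp.one_lt] at this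
    omega

/-- A transvection of order seven. -/
def genSeven : Matrix.SpecialLinearGroup (Fin 2) (ZMod 7) := ⟨!![1, 1; 0, 1], by decide⟩

/-- A diagonal element of order three. -/
def actSeven : Matrix.SpecialLinearGroup (Fin 2) (ZMod 7) := ⟨!![2, 0; 0, 4], by decide⟩

/-- A Singer cycle. -/
def genFour : Matrix.SpecialLinearGroup (Fin 3) (ZMod 2) :=
  ⟨!![0, 0, 1; 1, 0, 1; 0, 1, 0], by decide⟩

/-- The Frobenius automorphism of the Singer cycle. -/
def actFour : Matrix.SpecialLinearGroup (Fin 3) (ZMod 2) :=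
  ⟨!![1, 0, 0; 0, 0, 1; 0, 1, 1], by decide⟩

theorem exists_frob_seven (hF : Fintype.card F = 7) :
    ∃ x a : ProjectiveSpecialLinearGroup (Fin 2) F, orderOf x = 7 ∧ Odd (orderOf a) ∧
      a * x * a⁻¹ = x ^ 4 ∧ x ^ 4 ≠ x := by
  haveI : Fact (Nat.Prime 7) := ⟨by norm_num⟩
  haveI := charP_of_card' (F := F) (p := 7) (n := 1) (by norm_num) one_ne_zero (by rw [hF, pow_one])
  refine exists_frob (f := ZMod.castHom dvd_rfl F) (RingHom.injective _) (by norm_num) (by norm_num)
    (by norm_num) genSeven actSeven ?_ ?_ ?_ (i₀ := 0) (j₀ := 1) (by decide) ?_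
  all_goals decide +kernel

theorem exists_frob_four (hF : Fintype.card F = 4) :
    ∃ x a : ProjectiveSpecialLinearGroup (Fin 3) F, orderOf x = 7 ∧ Odd (orderOf a) ∧
      a * x * a⁻¹ = x ^ 2 ∧ x ^ 2 ≠ x := by
  haveI : Fact (Nat.Prime 2) := ⟨Nat.prime_two⟩
  haveI := charP_of_card' (F := F) (p := 2) (n := 2) Nat.prime_two two_ne_zero (by rw [hF]; norm_num)
  refine exists_frob (f := ZMod.castHom dvd_rfl F) (RingHom.injective _) (by norm_num) (by norm_num)
    le_rfl
    genFour actFour ?_ ?_ ?_ (i₀ := 1) (j₀ := 0) (by decide) ?_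
  all_goals decide +kernel

/-- The elation with parameter one. -/
def elat (F : Type*) [Field F] : Matrix.SpecialLinearGroup (Fin 3) F :=
  ⟨!![1, 0, 1; 0, 1, 0; 0, 0, 1], by simp [Matrix.det_fin_three]⟩

theorem mk_elat_ne_one :
    QuotientGroup.mk' (Subgroup.center (Matrix.SpecialLinearGroup (Fin 3) F)) (elat F) ≠ 1 := by
  intro h
  obtain ⟨c, -, hc⟩ := Matrix.SpecialLinearGroup.mem_center_iff.1 ((QuotientGroup.eq_one_iff _).1 h)
  have := congrFun (congrFun hc 0) 2
  simp [elat, scalar_apply] at this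

theorem mk_elat_sq [CharP F 2] :
    QuotientGroup.mk' (Subgroup.center (Matrix.SpecialLinearGroup (Fin 3) F)) (elat F) *
      QuotientGroup.mk' (Subgroup.center (Matrix.SpecialLinearGroup (Fin 3) F)) (elat F) = 1 := by
  rw [← map_mul, show elat F * elat F = 1 from ?_, map_one]
  refine Matrix.SpecialLinearGroup.ext _ _ fun i j => ?_
  rw [Matrix.SpecialLinearGroup.coe_mul, Matrix.SpecialLinearGroup.coe_one]
  fin_cases i <;> fin_cases j <;>
    simp [elat, Matrix.mul_apply, Fin.sum_univ_three, CharTwo.add_self_eq_zero]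

/-- In characteristic two all involutions of `PSL₃` are conjugate to the elation. -/
theorem exists_conj_elat [CharP F 2] {x : ProjectiveSpecialLinearGroup (Fin 3) F} (hx : x * x = 1)
    (hx1 : x ≠ 1) : ∃ g : ProjectiveSpecialLinearGroup (Fin 3) F,
      g * QuotientGroup.mk' _ (elat F) * g⁻¹ = x := by
  obtain ⟨A₀, rfl⟩ := QuotientGroup.mk'_surjective _ x
  -- an involution above `x`
  have hz : A₀ * A₀ ∈ Subgroup.center (Matrix.SpecialLinearGroup (Fin 3) F) :=
    (QuotientGroup.eq_one_iff _).1 (by rw [← QuotientGroup.mk'_apply, map_mul]; exact hx)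
  set A := A₀ * (A₀ * A₀) with hAdef
  have hπA : QuotientGroup.mk' (Subgroup.center (Matrix.SpecialLinearGroup (Fin 3) F)) A =
      QuotientGroup.mk' _ A₀ := by rw [hAdef, map_mul, map_mul, hx, mul_one]
  have hAA : A * A = 1 := by
    obtain ⟨c, hc3, hc⟩ := Matrix.SpecialLinearGroup.mem_center_iff.1 hz
    rw [hAdef, show A₀ * (A₀ * A₀) * (A₀ * (A₀ * A₀)) = (A₀ * A₀) * (A₀ * A₀) * (A₀ * A₀) by group]
    refine Subtype.ext ?_
    show _ = (1 : Matrix (Fin 3) (Fin 3) F)
    simp only [Matrix.SpecialLinearGroup.coe_mul]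
    rw [← Matrix.SpecialLinearGroup.coe_mul, ← hc, ← map_mul, ← map_mul,
      show c * c * c = 1 by rw [← pow_three']; simpa using hc3, map_one]
  have hA1 : A ≠ 1 := fun h => hx1 (by rw [← hπA, h, map_one])
  rw [← hπA]
  -- linear algebra
  set M := (A : Matrix (Fin 3) (Fin 3) F) with hM
  set f := Matrix.toLin' (M - 1) with hf
  have hMM : M * M = 1 := congrArg Subtype.val hAA
  have hsq : (M - 1) * (M - 1) = 0 := by
    rw [sub_mul, mul_sub, mul_sub, hMM, mul_one, one_mul, one_mul]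
    ext i j
    simp only [Matrix.sub_apply, Matrix.zero_apply]
    rw [show ((1 : Matrix (Fin 3) (Fin 3) F) i j - M i j - (M i j - (1 : Matrix (Fin 3) (Fin 3) F) i j))
      = ((1 : Matrix (Fin 3) (Fin 3) F) i j + (1 : Matrix (Fin 3) (Fin 3) F) i j) - (M i j + M i j) by ring,
      CharTwo.add_self_eq_zero, CharTwo.add_self_eq_zero, sub_zero]
  have hff : ∀ y, f (f y) = 0 := fun y => by
    rw [hf, Matrix.toLin'_apply, Matrix.toLin'_apply, Matrix.mulVec_mulVec, hsq, Matrix.zero_mulVec]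
  obtain ⟨v, hv⟩ : ∃ v, f v ≠ 0 := by
    by_contra hc
    push Not at hc
    refine hA1 (Subtype.ext ?_)
    have : f = 0 := LinearMap.ext hc
    rw [hf, map_eq_zero_iff _ Matrix.toLin'.injective, sub_eq_zero] at this
    exact this
  set w := f v with hw
  obtain ⟨u, hu, huw⟩ : ∃ u, f u = 0 ∧ u ∉ Submodule.span F {w} := by
    by_contra hc
    push Not at hc
    have hk : LinearMap.ker f ≤ Submodule.span F {w} := fun y hy => hc y hy
    have hr : LinearMap.range f ≤ LinearMap.ker f := by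
      rintro _ ⟨y, rfl⟩; exact hff y
    have h1 := f.finrank_range_add_finrank_ker
    have h2 := Submodule.finrank_mono hr
    have h3 := Submodule.finrank_mono hk
    have h4 := finrank_span_singleton (K := F) hv
    rw [Module.finrank_fin_fun] at h1
    omega
  set P₁ : Matrix (Fin 3) (Fin 3) F := Matrix.of fun i j => ![w i, u i, v i] j with hP₁
  have hmul : ∀ y : Fin 3 → F, P₁ *ᵥ y = y 0 • w + y 1 • u + y 2 • v := fun y => by
    ext i
    simp [hP₁, Matrix.mulVec, dotProduct, Fin.sum_univ_three, mul_comm]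
  have hdet : P₁.det ≠ 0 := by
    refine fun h0 => ?_
    obtain ⟨y, hy, hy0⟩ := Matrix.exists_mulVec_eq_zero_iff.2 h0
    rw [hmul] at hy0
    have h2 := congrArg f hy0
    rw [map_add, map_add, map_smul, map_smul, map_smul, hu, hw, hff, smul_zero, smul_zero, zero_add,
      zero_add, map_zero, smul_eq_zero] at h2
    have hy2 : y 2 = 0 := h2.resolve_right hv
    rw [hy2, zero_smul, add_zero] at hy0
    have hy1 : y 1 = 0 := by
      by_contra hne
      refine huw (Submodule.mem_span_singleton.2 ⟨-((y 1)⁻¹ * y 0), ?_⟩)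
      have := congrArg (fun z => (y 1)⁻¹ • z) hy0
      simp only [smul_add, smul_smul, inv_mul_cancel₀ hne, one_smul, smul_zero] at this
      rw [neg_smul, neg_eq_iff_add_eq_zero]
      exact this
    rw [hy1, zero_smul, add_zero, smul_eq_zero] at hy0
    have hy0' : y 0 = 0 := hy0.resolve_right hv
    exact hy (funext fun i => by fin_cases i <;> assumption)
  set d := P₁.det with hd
  set P : Matrix (Fin 3) (Fin 3) F := Matrix.of fun i j => ![w i, d⁻¹ * u i, v i] j with hP
  have hPdet : P.det = 1 := by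
    have : P = P₁ * Matrix.diagonal ![1, d⁻¹, 1] := by
      ext i j
      fin_cases j <;> simp [hP, hP₁, Matrix.mul_diagonal, mul_comm]
    rw [this, Matrix.det_mul, Matrix.det_diagonal, ← hd, Fin.prod_univ_three]
    simp [hdet]
  let g : Matrix.SpecialLinearGroup (Fin 3) F := ⟨P, hPdet⟩
  refine ⟨QuotientGroup.mk' _ g, ?_⟩
  rw [← map_inv, ← map_mul, ← map_mul]
  congr 1
  rw [mul_inv_eq_iff_eq_mul]
  refine Subtype.ext ?_
  rw [Matrix.SpecialLinearGroup.coe_mul, Matrix.SpecialLinearGroup.coe_mul, ← hM]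
  have hMv : ∀ y, M *ᵥ y = f y + y := fun y => by
    rw [hf, Matrix.toLin'_apply, Matrix.sub_mulVec, Matrix.one_mulVec, sub_add_cancel]
  have hMw : M *ᵥ w = w := by rw [hMv, hw, hff, zero_add]
  have hMu : M *ᵥ u = u := by rw [hMv, hu, zero_add]
  have hMv' : M *ᵥ v = w + v := hMv v
  ext i j
  have ew := congrFun hMw i
  have eu := congrFun hMu i
  have ev := congrFun hMv' i
  simp [Matrix.mulVec, dotProduct, Fin.sum_univ_three] at ew eu ev
  fin_cases j <;> simp [g, hP, elat, Matrix.mul_apply, Fin.sum_univ_three]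
  · linear_combination -ew
  · linear_combination -d⁻¹ * eu
  · linear_combination -ev

open CIT CIT.NoSection in
theorem perm_four_noncomm : ∀ h : Equiv.Perm (Fin 4), ¬ inFour h →
    ∃ v, inFour v ∧ h * v ≠ v * h := by
  decide +kernel

open CIT CIT.NoSection in
/-- A subgroup of order eight of the symmetric group of degree four is dihedral. -/
theorem exists_dihedral_data {X : Type*} [Group X] [Finite X] {M : Subgroup X}
    (e : M ≃* Equiv.Perm (Fin 4)) {D : Subgroup X} (hDM : D ≤ M) (h8 : Nat.card D = 8) :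
    ∃ x ∈ D, ∃ y ∈ D, ∃ a ∈ D, ∃ b ∈ D,
      x * y ≠ y * x ∧ a * a = 1 ∧ b * b = 1 ∧ a ≠ 1 ∧ b ≠ 1 ∧ a ≠ b := by
  let f : Equiv.Perm (Fin 4) →* X := M.subtype.comp e.symm.toMonoidHom
  have hf : Function.Injective f := M.subtype_injective.comp e.symm.injective
  have hc : Nat.card (D.comap f) = 8 := by
    rw [← Subgroup.card_map_of_injective hf, Subgroup.map_comap_eq_self ?_, h8]
    exact fun g hg => MonoidHom.mem_range.2 ⟨e ⟨g, hDM hg⟩, by simp [f]⟩
  obtain ⟨h, hh, hhV⟩ : ∃ h ∈ D.comap f, h ∉ fourSub := by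
    by_contra hcon
    push Not at hcon
    have := Subgroup.card_le_of_le (show D.comap f ≤ fourSub from hcon)
    rw [hc, card_fourSub] at this
    omega
  have hV : fourSub ≤ D.comap f := fourSub_le hc
  obtain ⟨v, hv, hne⟩ := perm_four_noncomm h hhV
  let z0 : Equiv.Perm (Fin 4) := Equiv.swap 0 1 * Equiv.swap 2 3
  let a0 : Equiv.Perm (Fin 4) := Equiv.swap 0 2 * Equiv.swap 1 3
  have hz0 : inFour z0 := Or.inr (Or.inl rfl)
  have ha0 : inFour a0 := Or.inr (Or.inr (Or.inl rfl))
  refine ⟨f h, hh, f v, hV hv, f z0, hV hz0, f a0, hV ha0, ?_, ?_, ?_, ?_, ?_, ?_⟩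
  · rw [← map_mul, ← map_mul]; exact hf.ne hne
  · rw [← map_mul, (perm_four_facts _ hz0).1, map_one]
  · rw [← map_mul, (perm_four_facts _ ha0).1, map_one]
  · exact (map_ne_one_iff _ hf).2 (by decide)
  · exact (map_ne_one_iff _ hf).2 (by decide)
  · exact hf.ne (by decide)

end CfsgLib.Recog.TwoR.Cons
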