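import Cfsg.Agent.Lib.Recog.TwoR.Consumers.CitBranch
import Cfsg.Prelude.Def_Sz

/-!
Groups in which no prime divides three element orders, and simple groups with at most one
composite element order, reduced to the recognition of `PSL₂(q)`, `q ≡ 3, 5 (mod 8)`, by the two
even orders `2`, `2r`.
-/

set_option autoImplicit false
set_option linter.dupNamespace false
set_option linter.unusedSectionVars false
set_option linter.style.haveILetI false

namespace CfsgLib.Recog.TwoR.Cons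

universe u

/-- The statement of the recognition by the even orders `2`, `2r`. -/
def PSLRecognition (G : Type u) [Group G] : Prop :=
  ∀ r : ℕ, Ord2r G r → ¬ Group.IsSolvable G → (∃ g : G, orderOf g = 2 * r) →
    ∃ (F : Type) (_ : Field F) (_ : Fintype F), 5 < Fintype.card F ∧
      (Fintype.card F % 8 = 3 ∨ Fintype.card F % 8 = 5) ∧
      Nonempty (G ≃* Matrix.ProjectiveSpecialLinearGroup (Fin 2) F)

variable {G : Type u} [Group G] [Finite G]

/-- Nonsolvable groups in which no prime divides three element orders. -/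
theorem threeFree_classification (hrec : PSLRecognition G) (hG : ¬ Group.IsSolvable G)
    (h3 : ThreeFree G) :
    (∃ (F : Type) (_ : Field F) (_ : Fintype F), CharP F 2 ∧ 4 ≤ Fintype.card F ∧
        (Fintype.card F + 1).primeFactorsList.length ≤ 2 ∧
        (Fintype.card F - 1).primeFactorsList.length ≤ 2 ∧
        Nonempty (G ⧸ Cfsg.pCore 2 G ≃* Matrix.ProjectiveSpecialLinearGroup (Fin 2) F)) ∨
    (∃ (F : Type) (_ : Field F) (_ : Fintype F), 5 < Fintype.card F ∧
        (Fintype.card F % 8 = 3 ∨ Fintype.card F % 8 = 5) ∧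
        ((Fintype.card F + 1) / 2).primeFactorsList.length ≤ 2 ∧
        ((Fintype.card F - 1) / 2).primeFactorsList.length ≤ 2 ∧
        Nonempty (G ≃* Matrix.ProjectiveSpecialLinearGroup (Fin 2) F)) ∨
    (∃ (F : Type) (_ : Field F) (_ : Fintype F), (Fintype.card F = 7 ∨ Fintype.card F = 9) ∧
        Nonempty (G ≃* Matrix.ProjectiveSpecialLinearGroup (Fin 2) F)) ∨
    (∃ (F : Type) (_ : Field F) (_ : Fintype F), Fintype.card F = 4 ∧
        Nonempty (G ≃* Matrix.ProjectiveSpecialLinearGroup (Fin 3) F)) ∨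
    (∃ n : ℕ, 1 ≤ n ∧ IsSimpleGroup G ∧
        Nat.card G = (2 ^ (2 * n + 1)) ^ 2 * ((2 ^ (2 * n + 1)) ^ 2 + 1) * (2 ^ (2 * n + 1) - 1) ∧
        (2 ^ (2 * n + 1) - 1).primeFactorsList.length ≤ 2 ∧
        (2 ^ (2 * n + 1) - 2 ^ (n + 1) + 1).primeFactorsList.length ≤ 2 ∧
        (2 ^ (2 * n + 1) + 2 ^ (n + 1) + 1).primeFactorsList.length ≤ 2) := by
  rcases h3.dichotomy with hord | ⟨r, hr, hex⟩
  · rcases cit_branch (cit_of_orders hord) hord hG with
      ⟨F, iF, jF, n, hn, hF, o1, o2, he⟩ | h | h | ⟨m, hm, hs, hc, o1, o2, o3⟩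
    · refine Or.inl ⟨F, iF, jF, charP_of_card Nat.prime_two (by omega) hF, ?_, ?_, ?_, he⟩
      · rw [hF]; exact le_trans (by norm_num) (Nat.pow_le_pow_right two_pos hn)
      · rw [hF]; exact h3.length_le o2
      · rw [hF]; exact h3.length_le o1
    · exact Or.inr (Or.inr (Or.inl h))
    · exact Or.inr (Or.inr (Or.inr (Or.inl h)))
    · exact Or.inr (Or.inr (Or.inr (Or.inr
        ⟨m, hm, hs, hc, h3.length_le o1, h3.length_le o3, h3.length_le o2⟩)))
  · obtain ⟨F, iF, jF, h5, h8, he⟩ := hrec r hr hG hex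
    obtain ⟨e⟩ := he
    obtain ⟨o1, o2⟩ := isOrd_psl_odd e (by omega)
    exact Or.inr (Or.inl ⟨F, iF, jF, h5, h8, h3.length_le o2, h3.length_le o1, ⟨e⟩⟩)

/-- Simple groups with at most one composite element order. -/
theorem oneComp_classification [IsSimpleGroup G] (hrec : PSLRecognition G) (h1 : OneComp G) :
    (Nat.card G).Prime ∨
    (∃ (F : Type) (_ : Field F) (_ : Fintype F), (Fintype.card F = 5 ∨ Fintype.card F = 7 ∨
        Fintype.card F = 8 ∨ Fintype.card F = 9 ∨ Fintype.card F = 11 ∨ Fintype.card F = 13 ∨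
        Fintype.card F = 16) ∧ Nonempty (G ≃* Matrix.ProjectiveSpecialLinearGroup (Fin 2) F)) ∨
    (∃ (F : Type) (_ : Field F) (_ : Fintype F), Fintype.card F = 4 ∧
        Nonempty (G ≃* Matrix.ProjectiveSpecialLinearGroup (Fin 3) F)) ∨
    (∃ (F : Type) (_ : Field F) (_ : Fintype F), Fintype.card F = 8 ∧
        Nonempty (G ≃* ↥(Cfsg.Lie.Sz F 4))) ∨
    (∃ (F : Type) (_ : Field F) (_ : Fintype F), ∃ n r s : ℕ, r.Prime ∧ s.Prime ∧ 3 ^ n - 1 = 2 * r ∧
        3 ^ n + 1 = 4 * s ∧ Fintype.card F = 3 ^ n ∧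
        Nonempty (G ≃* Matrix.ProjectiveSpecialLinearGroup (Fin 2) F)) ∨
    (∃ (F : Type) (_ : Field F) (_ : Fintype F), ∃ n r : ℕ, (2 ^ n - 1).Prime ∧ r.Prime ∧
        2 ^ n + 1 = 3 * r ∧ Fintype.card F = 2 ^ n ∧
        Nonempty (G ≃* Matrix.ProjectiveSpecialLinearGroup (Fin 2) F)) := by
  classical
  haveI := Fact.mk Nat.prime_two
  by_cases hab : ∀ a b : G, a * b = b * a
  · letI : CommGroup G := { (inferInstance : Group G) with mul_comm := hab }
    exact Or.inl IsSimpleGroup.prime_card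
  push Not at hab
  have hns : ¬ Group.IsSolvable G := fun h => by
    obtain ⟨a, b, hne⟩ := hab
    exact hne (IsSimpleGroup.comm_iff_isSolvable.2 h a b)
  rcases h1.threeFree.dichotomy with hord | ⟨r, hr, hex⟩
  swap
  · obtain ⟨F, iF, jF, h5, h8, ⟨e⟩⟩ := hrec r hr hns hex
    obtain ⟨o1, o2⟩ := isOrd_psl_odd e (by omega)
    rcases h1.odd_field h5 h8 exists_card_eq_three_pow o1 o2 with
      h | h | ⟨h3, r, s, hr, hs, e1, e2⟩
    · exact Or.inr (Or.inl ⟨F, iF, jF, by omega, ⟨e⟩⟩)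
    · exact Or.inr (Or.inl ⟨F, iF, jF, by omega, ⟨e⟩⟩)
    · obtain ⟨n, hn⟩ := exists_card_eq_three_pow h3
      exact Or.inr (Or.inr (Or.inr (Or.inr (Or.inl
        ⟨F, iF, jF, n, r, s, hr, hs, hn ▸ e1, hn ▸ e2, hn, ⟨e⟩⟩))))
  rcases CIT.known_of_cit hab (cit_of_orders hord) with ⟨⟨S, D, q, hd⟩, hkind⟩ | hodd | h34
  · rcases hkind with ⟨F, iF, jF, ⟨n, hn, hF⟩, ⟨e⟩⟩ | hsz
    · obtain ⟨o1, o2⟩ := isOrd_psl_even e (by omega) hF
      rcases h1.two_pow hn o1 o2 with rfl | rfl | ⟨hp, r, hr, hr'⟩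
      · obtain ⟨K, iK, jK, hK, hK'⟩ := psl_four_to_five e (by rw [hF]; norm_num)
        exact Or.inr (Or.inl ⟨K, iK, jK, Or.inl hK, hK'⟩)
      · exact Or.inr (Or.inl ⟨F, iF, jF, by rw [hF]; norm_num, ⟨e⟩⟩)
      · exact Or.inr (Or.inr (Or.inr (Or.inr (Or.inr ⟨F, iF, jF, n, r, hp, hr, hr', hF, ⟨e⟩⟩))))
    · obtain ⟨⟨m, hm, hq⟩, hS, hel⟩ := CIT.exists_n hd hsz
      push Not at hel
      obtain ⟨x, hx, hxx⟩ := hel
      have h4 : IsOrd G 4 := by
        obtain ⟨k, hk⟩ := IsPGroup.iff_orderOf.1 hd.isP ⟨x, hx⟩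
        rw [Subgroup.orderOf_mk] at hk
        refine ⟨x, ?_⟩
        rcases k with _ | k
        · rw [pow_zero, orderOf_eq_one_iff] at hk
          exact absurd (by rw [hk, one_mul]) hxx
        · refine (hord x (by rw [hk]; exact dvd_pow_self 2 (Nat.succ_ne_zero k))).resolve_left
            fun h2 => hxx ?_
          rw [← pow_two, ← h2, pow_orderOf_eq_one]
      obtain ⟨-, o2, o3⟩ := isOrd_suzuki hd hm hq hS
      obtain rfl := h1.suzuki hm h4 o2 o3
      let i := Fintype.ofFinite (GaloisField 2 3)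
      have hF : Fintype.card (GaloisField 2 3) = 8 := by
        rw [← Nat.card_eq_fintype_card, GaloisField.card 2 3 (by norm_num)]; norm_num
      exact Or.inr (Or.inr (Or.inr (Or.inl ⟨GaloisField 2 3, inferInstance, i, hF,
        SzIso.iso_Sz_of_SEData_odd hd hS hq _ (by rw [hF, hq]; norm_num)⟩)))
  · obtain ⟨⟨F, iF, jF, hF, ⟨e⟩⟩, M₁, M₂, -, ⟨e₁⟩, -, -⟩ := hodd
    have hq : Fintype.card F = 7 ∨ Fintype.card F = 9 :=
      card_field_oddType (E := ⊤) hord hF (Subgroup.topEquiv.trans e)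
        (M := M₁.map (Subgroup.topEquiv (G := G)).symm.toMonoidHom)
        (((Subgroup.topEquiv (G := G)).symm.subgroupMap M₁).symm.trans e₁)
    exact Or.inr (Or.inl ⟨F, iF, jF, by omega, ⟨e⟩⟩)
  · exact Or.inr (Or.inr (Or.inl h34))

end CfsgLib.Recog.TwoR.Cons
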