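import Cfsg.Agent.Lib.Recog.TwoR.Consumers.Orders
import Cfsg.Agent.Lib.Recog.ProjSpectrum
import Cfsg.Agent.Lib.Recog.CIT.SEKnown
import Cfsg.Agent.Lib.Recog.SzIso.Group
import Cfsg.Agent.Lib.Small.Order60
import Cfsg.Agent.S0333

/-!
Element orders of `PSL₂(q)` and of the Suzuki groups, as they are used by the classifications by
few element orders.
-/

set_option autoImplicit false
set_option linter.dupNamespace false
set_option linter.unusedSectionVars false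
set_option linter.style.haveILetI false

namespace CfsgLib.Recog.TwoR.Cons

universe u

variable {G : Type u} [Group G] [Finite G] {F : Type} [Field F] [Fintype F]

theorem isOrd_psl (e : G ≃* Matrix.ProjectiveSpecialLinearGroup (Fin 2) F) :
    IsOrd G ((Fintype.card F - 1) / dTwo F) ∧ IsOrd G ((Fintype.card F + 1) / dTwo F) := by
  haveI : Fact (Nat.Prime (ringChar F)) := ⟨CharP.char_is_prime F (ringChar F)⟩
  obtain ⟨x, hx⟩ := exists_orderOf_eq_card_sub_one_PSL (F := F)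
  obtain ⟨y, hy⟩ := exists_orderOf_eq_card_add_one_PSL (F := F) (ringChar F)
  exact ⟨⟨e.symm x, (e.symm.orderOf_eq x).trans hx⟩, ⟨e.symm y, (e.symm.orderOf_eq y).trans hy⟩⟩

theorem isOrd_psl_even (e : G ≃* Matrix.ProjectiveSpecialLinearGroup (Fin 2) F) {n : ℕ}
    (hn : 1 ≤ n) (hF : Fintype.card F = 2 ^ n) :
    IsOrd G (2 ^ n - 1) ∧ IsOrd G (2 ^ n + 1) := by
  have h := isOrd_psl e
  have hd : dTwo F = 1 := by
    unfold dTwo
    rw [if_pos]
    rw [hF]
    exact even_two.pow_of_ne_zero (by omega)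
  rwa [hd, Nat.div_one, Nat.div_one, hF] at h

theorem isOrd_psl_odd (e : G ≃* Matrix.ProjectiveSpecialLinearGroup (Fin 2) F)
    (hodd : Fintype.card F % 2 = 1) :
    IsOrd G ((Fintype.card F - 1) / 2) ∧ IsOrd G ((Fintype.card F + 1) / 2) := by
  have h := isOrd_psl e
  have hd : dTwo F = 2 := by
    unfold dTwo
    rw [if_neg (Nat.not_even_iff_odd.2 (Nat.odd_iff.2 hodd))]
  rwa [hd] at h

theorem charP_of_card {p n : ℕ} (hp : p.Prime) (hn : n ≠ 0) (hF : Fintype.card F = p ^ n) :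
    CharP F p := by
  obtain ⟨r, hr⟩ := CharP.exists F
  obtain ⟨k, hrp, hk⟩ := FiniteField.card F r
  have : p ∣ r ^ (k : ℕ) := hk ▸ hF ▸ dvd_pow_self p hn
  exact ((Nat.prime_dvd_prime_iff_eq hp hrp).1 (hp.dvd_of_dvd_pow this)) ▸ hr

theorem exists_card_eq_three_pow (h3 : 3 ∣ Fintype.card F) : ∃ n, Fintype.card F = 3 ^ n := by
  obtain ⟨r, hr⟩ := CharP.exists F
  obtain ⟨k, hrp, hk⟩ := FiniteField.card F r
  rw [hk] at h3
  obtain rfl := (Nat.prime_dvd_prime_iff_eq Nat.prime_three hrp).1 (Nat.prime_three.dvd_of_dvd_pow h3)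
  exact ⟨k, hk⟩

/-- `PSL₂(4)` is `PSL₂(5)`. -/
theorem psl_four_to_five (e : G ≃* Matrix.ProjectiveSpecialLinearGroup (Fin 2) F)
    (hF : Fintype.card F = 4) :
    ∃ (K : Type) (_ : Field K) (_ : Fintype K), Fintype.card K = 5 ∧
      Nonempty (G ≃* Matrix.ProjectiveSpecialLinearGroup (Fin 2) K) := by
  haveI : Fact (Nat.Prime 5) := ⟨by norm_num⟩
  haveI : IsSimpleGroup (Matrix.ProjectiveSpecialLinearGroup (Fin 2) F) :=
    Classical.isSimpleGroup_PSL_fin 2 le_rfl fun _ => by rw [Nat.card_eq_fintype_card, hF]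
  haveI : IsSimpleGroup (Matrix.ProjectiveSpecialLinearGroup (Fin 2) (ZMod 5)) :=
    Classical.isSimpleGroup_PSL_fin 2 le_rfl fun _ => by simp
  have h4 : Nat.card (Matrix.ProjectiveSpecialLinearGroup (Fin 2) F) = 60 := by
    rw [Classical.card_PSL_two, Nat.card_eq_fintype_card, hF]; rfl
  have h5 : Nat.card (Matrix.ProjectiveSpecialLinearGroup (Fin 2) (ZMod 5)) = 60 := by
    rw [Classical.card_PSL_two, Nat.card_zmod]; rfl
  obtain ⟨i⟩ := Small.equiv_alternating_five h4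
  obtain ⟨j⟩ := Small.equiv_alternating_five h5
  exact ⟨ZMod 5, inferInstance, inferInstance, ZMod.card 5, ⟨e.trans (i.trans j.symm)⟩⟩

/-- Arithmetic of `PSL₂(2^n)` with at most one composite order. -/
theorem OneComp.two_pow (h : OneComp G) {n : ℕ} (hn : 2 ≤ n) (h1 : IsOrd G (2 ^ n - 1))
    (h2 : IsOrd G (2 ^ n + 1)) :
    n = 2 ∨ n = 4 ∨ ((2 ^ n - 1).Prime ∧ ∃ r : ℕ, r.Prime ∧ 2 ^ n + 1 = 3 * r) := by
  rcases Nat.even_or_odd n with ⟨k, rfl⟩ | ⟨k, rfl⟩
  · rcases k with _ | _ | _ | k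
    · omega
    · exact Or.inl rfl
    · exact Or.inr (Or.inl rfl)
    exfalso
    set m := 2 ^ (k + 3) with hm
    have hm8 : 8 ≤ m := le_trans (by norm_num) (Nat.pow_le_pow_right two_pos (show 3 ≤ k + 3 by omega))
    have hf : 2 ^ (k + 3 + (k + 3)) - 1 = (m + 1) * (m - 1) := by
      rw [pow_add, ← hm, ← Nat.sq_sub_sq m 1, one_pow, pow_two]
    rw [hf] at h1
    have hlt : m + 1 < (m + 1) * (m - 1) := lt_mul_of_one_lt_right (by omega) (by omega)
    have hlt' : m - 1 < (m + 1) * (m - 1) := lt_mul_of_one_lt_left (by omega) (by omega)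
    have hnp : ¬ ((m + 1) * (m - 1)).Prime := Nat.not_prime_mul (by omega) (by omega)
    have p1 := h.prime_of_dvd h1 hnp (dvd_mul_right _ _) (by omega) hlt
    have p2 := h.prime_of_dvd h1 hnp (dvd_mul_left _ _) (by omega) hlt'
    have h3 : m % 3 = 1 ∨ m % 3 = 2 := by
      have : ¬ 3 ∣ m := fun hd => by
        have := (Nat.prime_dvd_prime_iff_eq Nat.prime_three Nat.prime_two).1
          (Nat.prime_three.dvd_of_dvd_pow (hm ▸ hd))
        omega
      omega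
    rcases h3 with h3 | h3
    · have := (Nat.prime_dvd_prime_iff_eq Nat.prime_three p2).1 (by omega)
      omega
    · have := (Nat.prime_dvd_prime_iff_eq Nat.prime_three p1).1 (by omega)
      omega
  · have h8 : 8 ≤ 2 ^ (2 * k + 1) :=
      le_trans (by norm_num) (Nat.pow_le_pow_right two_pos (show 3 ≤ 2 * k + 1 by omega))
    have h3 : 2 ^ (2 * k + 1) % 3 = 2 := by
      rw [pow_succ, pow_mul, Nat.mul_mod, Nat.pow_mod]; norm_num
    set Q := 2 ^ (2 * k + 1) with hQ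
    obtain ⟨r, hr⟩ : 3 ∣ Q + 1 := by omega
    clear_value Q
    rw [hr] at h2
    have hnp : ¬ (3 * r).Prime := Nat.not_prime_mul (by norm_num) (by omega)
    refine Or.inr (Or.inr ⟨?_, r, ?_, hr⟩)
    · by_contra hnp'
      have := h.eq h1 h2 (by omega) hnp' (by omega) hnp
      omega
    · exact h.prime_of_dvd h2 hnp (dvd_mul_left _ _) (by omega) (by omega)

/-- Arithmetic of `PSL₂(q)`, `q ≡ 3, 5 (mod 8)`, with at most one composite order. -/
theorem OneComp.odd_field (h : OneComp G) {q : ℕ} (hq : 5 < q) (h8 : q % 8 = 3 ∨ q % 8 = 5)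
    (hpow : 3 ∣ q → ∃ n, q = 3 ^ n)
    (h1 : IsOrd G ((q - 1) / 2)) (h2 : IsOrd G ((q + 1) / 2)) :
    q = 11 ∨ q = 13 ∨ (3 ∣ q ∧ ∃ r s : ℕ, r.Prime ∧ s.Prime ∧ q - 1 = 2 * r ∧ q + 1 = 4 * s) := by
  -- the even one is twice a prime, the odd one is a prime
  obtain ⟨a, b, hab, ha, hb⟩ : ∃ a b, ((q % 8 = 3 ∧ q - 1 = 2 * a ∧ q + 1 = 4 * b) ∨
      (q % 8 = 5 ∧ q + 1 = 2 * a ∧ q - 1 = 4 * b)) ∧ IsOrd G a ∧ IsOrd G (2 * b) := by
    rcases h8 with h8 | h8
    · exact ⟨(q - 1) / 2, (q + 1) / 4, Or.inl ⟨h8, by omega, by omega⟩, h1,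
        by rwa [show 2 * ((q + 1) / 4) = (q + 1) / 2 by omega]⟩
    · exact ⟨(q + 1) / 2, (q - 1) / 4, Or.inr ⟨h8, by omega, by omega⟩, h2,
        by rwa [show 2 * ((q - 1) / 4) = (q - 1) / 2 by omega]⟩
  have hb1 : 1 < b := by omega
  have hnp : ¬ (2 * b).Prime := Nat.not_prime_mul (by norm_num) hb1.ne'
  have hbp : b.Prime := h.prime_of_dvd hb hnp (dvd_mul_left _ _) hb1 (by omega)
  have hap : a.Prime := by
    by_contra hnp'
    have := h.eq ha hb (by omega) hnp' (by omega) hnp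
    omega
  by_cases h3 : 3 ∣ q
  · refine Or.inr (Or.inr ⟨h3, a, b, hap, hbp, ?_⟩)
    rcases hab with ⟨-, e1, e2⟩ | ⟨h5, -, -⟩
    · exact ⟨e1, e2⟩
    · exfalso
      obtain ⟨n, rfl⟩ := hpow h3
      have h9 : ∀ j, 3 ^ j % 8 = 1 ∨ 3 ^ j % 8 = 3 := fun j => by
        induction j with
        | zero => simp
        | succ j ih => rw [pow_succ]; omega
      have := h9 n
      omega
  have h3' : q % 3 = 1 ∨ q % 3 = 2 := by omega
  have hmul : ∀ c x : ℕ, ¬ 3 ∣ c → 3 ∣ c * x → 3 ∣ x := fun c x hc hx =>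
    (Nat.prime_three.dvd_mul.1 hx).resolve_left hc
  have : 3 ∣ a ∨ 3 ∣ b := by
    rcases hab with ⟨-, e1, e2⟩ | ⟨-, e1, e2⟩ <;> rcases h3' with h3' | h3'
    · exact Or.inl (hmul 2 a (by norm_num) (by rw [← e1]; omega))
    · exact Or.inr (hmul 4 b (by norm_num) (by rw [← e2]; omega))
    · exact Or.inr (hmul 4 b (by norm_num) (by rw [← e2]; omega))
    · exact Or.inl (hmul 2 a (by norm_num) (by rw [← e1]; omega))
  rcases this with h3a | h3b
  · have := (Nat.prime_dvd_prime_iff_eq Nat.prime_three hap).1 h3a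
    omega
  · have := (Nat.prime_dvd_prime_iff_eq Nat.prime_three hbp).1 h3b
    omega

open CIT in
/-- The torus orders of a Suzuki group. -/
theorem isOrd_suzuki [IsSimpleGroup G] {S D : Subgroup G} {q : ℕ} (h : SEData G S D q) {m : ℕ}
    (hm : 1 ≤ m) (hq : q = 2 ^ (2 * m + 1)) (hS : Nat.card S = q ^ 2) :
    IsOrd G (2 ^ (2 * m + 1) - 1) ∧ IsOrd G (2 ^ (2 * m + 1) + 2 ^ (m + 1) + 1) ∧
      IsOrd G (2 ^ (2 * m + 1) - 2 ^ (m + 1) + 1) := by
  haveI := Fact.mk Nat.prime_two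
  let i := Fintype.ofFinite (GaloisField 2 (2 * m + 1))
  have hF : Fintype.card (GaloisField 2 (2 * m + 1)) = 2 ^ (2 * m + 1) := by
    rw [← Nat.card_eq_fintype_card, GaloisField.card 2 _ (by omega)]
  obtain ⟨e⟩ := SzIso.iso_Sz_of_SEData_odd h hS hq (GaloisField 2 (2 * m + 1)) (hF.trans hq.symm)
  let f := e.trans (KnownA.Suzuki.iso hm hF)
  have key : ∀ k ∈ ({2 ^ (2 * m + 1) + 2 ^ (m + 1) + 1, 2 ^ (2 * m + 1) - 2 ^ (m + 1) + 1} : Set ℕ),
      IsOrd G k := fun k hk => by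
    obtain ⟨U, hU, hUk, -, -⟩ := Cfsg.Agent.S0333.result hm hF k hk
    obtain ⟨u, hu⟩ := IsCyclic.exists_ofOrder_eq_natCard (α := U)
    exact ⟨f.symm u, by rw [f.symm.orderOf_eq, Subgroup.orderOf_coe, hu, hUk]⟩
  refine ⟨?_, key _ (Or.inl rfl), key _ (Or.inr rfl)⟩
  haveI := h.cyclic_D
  obtain ⟨d, hd⟩ := IsCyclic.exists_ofOrder_eq_natCard (α := D)
  exact ⟨d, by rw [Subgroup.orderOf_coe, hd, h.card_D, hq]⟩

/-- With at most one composite order, and four an order, only `Sz(8)` remains. -/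
theorem OneComp.suzuki (h : OneComp G) {m : ℕ} (hm : 1 ≤ m) (h4 : IsOrd G 4)
    (hp : IsOrd G (2 ^ (2 * m + 1) + 2 ^ (m + 1) + 1))
    (hq : IsOrd G (2 ^ (2 * m + 1) - 2 ^ (m + 1) + 1)) : m = 1 := by
  set Q := 2 ^ (2 * m + 1) with hQ
  set R := 2 ^ (m + 1) with hR
  have hR4 : 4 ≤ R := le_trans (by norm_num) (Nat.pow_le_pow_right two_pos (show 2 ≤ m + 1 by omega))
  have hQR : 2 * R ≤ Q := by
    rw [hQ, hR, ← pow_succ']; exact Nat.pow_le_pow_right two_pos (by omega)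
  have hprime : ∀ x, IsOrd G x → 4 < x → x.Prime := fun x hx hx4 => by
    by_contra hnp
    exact hx4.ne (h.eq h4 hx (by norm_num) (by norm_num) (by omega) hnp)
  have h5 : 5 ∣ (Q - R + 1) * (Q + R + 1) := by
    have hsq : R ^ 2 = 2 * Q := by rw [hR, hQ, ← pow_succ', ← pow_mul]; ring_nf
    obtain ⟨w, hw⟩ : ∃ w, Q = w + R := ⟨Q - R, by omega⟩
    have e : (Q - R + 1) * (Q + R + 1) = Q ^ 2 + 1 := by
      rw [show Q - R = w by omega, hw]
      rw [hw] at hsq
      nlinarith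
    rw [e]
    have : Q ^ 2 % 5 = 4 := by
      rw [hQ, ← pow_mul, show (2 * m + 1) * 2 = 4 * m + 2 by ring, pow_add, pow_mul, Nat.mul_mod,
        Nat.pow_mod]
      norm_num
    omega
  rcases (show Nat.Prime 5 by norm_num).dvd_mul.1 h5 with h5 | h5
  · have h' := (Nat.prime_dvd_prime_iff_eq (by norm_num) (hprime _ hq (by omega))).1 h5
    by_contra hm1
    have : 2 * R + R ≤ Q := by
      have : 4 * R ≤ Q := by
        rw [hQ, hR, show 4 = 2 ^ 2 by norm_num, ← pow_add]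
        exact Nat.pow_le_pow_right two_pos (by omega)
      omega
    omega
  · have := (Nat.prime_dvd_prime_iff_eq (by norm_num) (hprime _ hp (by omega))).1 h5
    omega

end CfsgLib.Recog.TwoR.Cons
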