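import Cfsg.Agent.Lib.Recog.TwoR.Consumers.Dihedral
import Cfsg.Agent.Lib.Recog.TwoR.Consumers.Models
import Cfsg.Agent.Lib.Recog.TwoR.Consumers.Spectra
import Cfsg.Agent.Lib.Recog.CIT.Main
import Cfsg.Agent.Lib.Recog.CIT.SimpleNormal

/-!
Nonsolvable groups with involution centralisers 2-groups and even element orders two and four.
-/

set_option autoImplicit false
set_option linter.dupNamespace false
set_option linter.unusedSectionVars false
set_option linter.style.haveILetI false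

namespace CfsgLib.Recog.TwoR.Cons

open CIT

universe u

variable {Y : Type u} [Group Y] [Finite Y]

/-- The odd field sizes. -/
theorem card_field_oddType (hord : ∀ g : Y, 2 ∣ orderOf g → orderOf g = 2 ∨ orderOf g = 4)
    {E : Subgroup Y} {F : Type} [Field F] [Fintype F]
    (hF : Fintype.card F = 9 ∨
      ((Fintype.card F).Prime ∧ ∃ k : ℕ, Fintype.card F = 2 ^ k + 1 ∨ Fintype.card F + 1 = 2 ^ k))
    (e : E ≃* Matrix.ProjectiveSpecialLinearGroup (Fin 2) F) {M : Subgroup E}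
    (eM : M ≃* Equiv.Perm (Fin 4)) : Fintype.card F = 7 ∨ Fintype.card F = 9 := by
  rcases hF with h9 | ⟨hp, k, hk⟩
  · exact Or.inr h9
  have h24 : 24 ∣ Nat.card (Matrix.ProjectiveSpecialLinearGroup (Fin 2) F) := by
    rw [← Nat.card_congr e.toEquiv]
    have := Subgroup.card_subgroup_dvd_card M
    rw [Nat.card_congr eM.toEquiv, Nat.card_perm, Nat.card_fin] at this
    exact this
  rw [Classical.card_PSL_two, Nat.card_eq_fintype_card] at h24
  have h2 : Fintype.card F ≠ 2 := fun h => by rw [h] at h24; norm_num at h24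
  have h3 : Fintype.card F ≠ 3 := fun h => by rw [h] at h24; norm_num at h24
  have h5 : Fintype.card F ≠ 5 := fun h => by rw [h] at h24; norm_num at h24
  have hodd := Nat.odd_iff.1 (hp.odd_of_ne_two h2)
  obtain ⟨o1, o2⟩ := isOrd_psl_odd e hodd
  have key : ∀ n, IsOrd E n → 2 ∣ n → n = 2 ∨ n = 4 := fun n hn hn2 => by
    obtain ⟨g, rfl⟩ := hn
    rw [← Subgroup.orderOf_coe] at hn2 ⊢
    exact hord _ hn2
  have hk3 : k ≤ 3 := by
    by_contra hgt
    have h16 : 16 ≤ 2 ^ k := le_trans (by norm_num) (Nat.pow_le_pow_right two_pos (show 4 ≤ k by omega))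
    have heven : 2 ^ k % 4 = 0 := by
      obtain ⟨j, rfl⟩ : ∃ j, k = 2 + j := ⟨k - 2, by omega⟩
      rw [pow_add]; omega
    rcases hk with hk | hk
    · have := key _ o1 (by omega)
      omega
    · have := key _ o2 (by omega)
      omega
  have := hp.two_le
  interval_cases k <;> rcases hk with hk | hk <;> simp only [Nat.reducePow, pow_zero, pow_one] at hk <;> omega

/-- Extensions of `PSL₃(4)`. -/
theorem eq_top_of_isL34 (hY : CIT Y)
    (hord : ∀ g : Y, 2 ∣ orderOf g → orderOf g = 2 ∨ orderOf g = 4) {E : Subgroup Y} [hE : E.Normal]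
    (h : IsL34 E) : E = ⊤ := by
  obtain ⟨F, _, _, hF, ⟨e⟩⟩ := h
  haveI := charP_of_card' (F := F) (p := 2) (n := 2) Nat.prime_two two_ne_zero (by rw [hF]; norm_num)
  set t : E := e.symm (QuotientGroup.mk' _ (elat F)) with ht
  have ht1 : (t : Y) ≠ 1 := fun h1 => mk_elat_ne_one (F := F) (by
    rw [← e.apply_symm_apply (QuotientGroup.mk' _ (elat F)), ← ht,
      show t = 1 from Subtype.ext h1, map_one])
  have htt : (t : Y) * t = 1 := by
    rw [← Subgroup.coe_mul, ht, ← map_mul, mk_elat_sq, map_one, Subgroup.coe_one]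
  have hsup : ∀ g : Y, ∃ c ∈ E, c * g ∈ Subgroup.centralizer ({(t : Y)} : Set Y) := by
    intro g
    set x : E := MulAut.conjNormal g t with hx
    obtain ⟨k, hk⟩ := exists_conj_elat (F := F) (x := e x)
      (by rw [← map_mul, hx, ← map_mul, show t * t = 1 from Subtype.ext htt, map_one, map_one])
      (fun h1 => ht1 (congrArg Subtype.val ((MulAut.conjNormal g).injective
        ((e.injective (h1.trans e.map_one.symm)).trans (map_one _).symm))))
    have hk' : e.symm k * t * (e.symm k)⁻¹ = x := by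
      rw [ht, ← map_inv, ← map_mul, ← map_mul, hk, e.symm_apply_apply]
    refine ⟨((e.symm k)⁻¹ : E), SetLike.coe_mem _, Subgroup.mem_centralizer_singleton_iff.2 ?_⟩
    rw [← mul_inv_eq_iff_eq_mul]
    have h2 := congrArg (Subtype.val : E → Y) hk'
    simp only [hx, Subgroup.coe_mul, Subgroup.coe_inv, MulAut.conjNormal_apply] at h2
    rw [Subgroup.coe_inv]
    calc ((e.symm k : E) : Y)⁻¹ * g * t * (((e.symm k : E) : Y)⁻¹ * g)⁻¹
        = ((e.symm k : E) : Y)⁻¹ * (g * t * g⁻¹) * (e.symm k : E) := by group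
      _ = t := by rw [← h2]; group
  have hTO := TwoOver.of_supplement (hY _ (EPPOTwo.orderOf_eq_two htt ht1)) hsup
  obtain ⟨x, a, hx, ha, hax, hne⟩ := exists_frob_four (F := F) hF
  refine eq_top_of_frob hord hTO (p := 7) (by norm_num) ?_ (x := e.symm x) (a := e.symm a) (j := 2)
    ?_ ?_ ?_ ?_
  · rw [Nat.card_congr e.toEquiv, card_psl_three_four hF]
    norm_num
  · rw [e.symm.orderOf_eq, hx]
  · rwa [e.symm.orderOf_eq]
  · rw [← map_inv, ← map_mul, ← map_mul, hax, map_pow]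
  · rw [← map_pow]; exact e.symm.injective.ne hne

/-- Extensions of the groups of odd type. -/
theorem eq_top_of_oddType (hY : CIT Y)
    (hord : ∀ g : Y, 2 ∣ orderOf g → orderOf g = 2 ∨ orderOf g = 4)
    (hcore : Cfsg.pCore 2 Y = ⊥) {E : Subgroup Y} [hE : E.Normal] (h : IsOddType E) :
    E = ⊤ ∧ ∃ (F : Type) (_ : Field F) (_ : Fintype F),
      (Fintype.card F = 7 ∨ Fintype.card F = 9) ∧
        Nonempty (E ≃* Matrix.ProjectiveSpecialLinearGroup (Fin 2) F) := by
  obtain ⟨⟨F, iF, jF, hF0, ⟨e⟩⟩, M₁, M₂, -, ⟨e₁⟩, -, h8⟩ := h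
  have hF := card_field_oddType hord hF0 e e₁
  refine ⟨?_, F, iF, jF, hF, ⟨e⟩⟩
  have hcard : Nat.card E = 168 ∨ Nat.card E = 360 := by
    rw [Nat.card_congr e.toEquiv]
    rcases hF with h | h
    · exact Or.inl (card_psl_seven h)
    · exact Or.inr (card_psl_nine h)
  obtain ⟨x, hx, y, hy, a, ha, b, hb, hxy, haa, hbb, ha1, hb1, hab⟩ :=
    exists_dihedral_data e₁ (inf_le_left (b := M₂)) h8
  obtain ⟨hTO, hout⟩ := twoOver_and_invol hY hord (E := E)
    (by rcases hcard with h | h <;> rw [h] <;> norm_num) _ h8 hx hy hxy ha hb haa hbb ha1 hb1 hab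
  rcases hF with h7 | h9
  · obtain ⟨x, a, hx, ha, hax, hne⟩ := exists_frob_seven (F := F) h7
    refine eq_top_of_frob hord hTO (p := 7) (by norm_num) ?_ (x := e.symm x) (a := e.symm a) (j := 4)
      ?_ ?_ ?_ ?_
    · rw [Nat.card_congr e.toEquiv, card_psl_seven h7]
      norm_num
    · rw [e.symm.orderOf_eq, hx]
    · rwa [e.symm.orderOf_eq]
    · rw [← map_inv, ← map_mul, ← map_mul, hax, map_pow]
    · rw [← map_pow]; exact e.symm.injective.ne hne
  · by_contra hne
    obtain ⟨v, hv, hvE⟩ := hout hne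
    obtain ⟨i, hi⟩ := exists_sq_neg_one h9
    refine false_of_outer_invol hY hcore hE hTO (fun z => ?_) hv hvE
    obtain ⟨s, hs⟩ := exists_conj_inv hi (e z)
    exact ⟨e.symm s, e.injective (by rw [map_mul, map_mul, map_inv, map_inv, e.apply_symm_apply, hs])⟩

theorem eq_pow_of_isCyclic {X : Type*} [Group X] [Finite X] [IsCyclic X] {x y : X} {p : ℕ}
    (hp : 0 < p) (hx : orderOf x = p) (hy : y ^ p = 1) : ∃ i < p, y = x ^ i := by
  classical
  letI := Fintype.ofFinite X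
  by_contra hcon
  push Not at hcon
  have hsub : insert y ((Finset.range p).image (x ^ ·)) ⊆
      Finset.univ.filter (fun z : X => z ^ p = 1) := by
    intro z hz
    rw [Finset.mem_filter]
    refine ⟨Finset.mem_univ _, ?_⟩
    rcases Finset.mem_insert.1 hz with rfl | hz
    · exact hy
    · obtain ⟨i, -, rfl⟩ := Finset.mem_image.1 hz
      rw [← pow_mul, mul_comm, pow_mul, ← hx, pow_orderOf_eq_one, one_pow]
  have := (Finset.card_le_card hsub).trans (IsCyclic.card_pow_eq_one_le hp)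
  rw [Finset.card_insert_of_notMem (fun hm => by
    obtain ⟨i, hi, rfl⟩ := Finset.mem_image.1 hm
    exact hcon i (Finset.mem_range.1 hi) rfl),
    Finset.card_image_of_injOn (by rw [← hx, Finset.coe_range]; exact pow_injOn_Iio_orderOf),
    Finset.card_range] at this
  omega

/-- A Frobenius group of order twenty inside a Suzuki group. -/
theorem exists_five_four {X : Type u} [Group X] [Finite X] [IsSimpleGroup X] {S D : Subgroup X}
    {q : ℕ} (h : SEData X S D q) {m : ℕ} (hm : 1 ≤ m) (hq : q = 2 ^ (2 * m + 1))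
    (hS : Nat.card S = q ^ 2) :
    ∃ x y : X, orderOf x = 5 ∧ 4 ∣ orderOf y ∧ y * x * y⁻¹ = x ^ 2 := by
  classical
  haveI := Fact.mk Nat.prime_two
  let i := Fintype.ofFinite (GaloisField 2 (2 * m + 1))
  have hF : Fintype.card (GaloisField 2 (2 * m + 1)) = 2 ^ (2 * m + 1) := by
    rw [← Nat.card_eq_fintype_card, GaloisField.card 2 _ (by omega)]
  obtain ⟨e⟩ := SzIso.iso_Sz_of_SEData_odd h hS hq (GaloisField 2 (2 * m + 1)) (hF.trans hq.symm)
  let f := e.trans (KnownA.Suzuki.iso hm hF)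
  suffices ∃ x y : ↥(Cfsg.Sz (GaloisField 2 (2 * m + 1)) m),
      orderOf x = 5 ∧ 4 ∣ orderOf y ∧ y * x * y⁻¹ = x ^ 2 by
    obtain ⟨x, y, hx, hy, hxy⟩ := this
    exact ⟨f.symm x, f.symm y, by rw [f.symm.orderOf_eq, hx], by rwa [f.symm.orderOf_eq],
      by rw [← map_inv, ← map_mul, ← map_mul, hxy, map_pow]⟩
  obtain ⟨k, hk, h5⟩ : ∃ k ∈ ({2 ^ (2 * m + 1) + 2 ^ (m + 1) + 1,
      2 ^ (2 * m + 1) - 2 ^ (m + 1) + 1} : Set ℕ), 5 ∣ k := by
    set Q := 2 ^ (2 * m + 1) with hQ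
    set R := 2 ^ (m + 1) with hR
    have hRQ : R ≤ Q := by rw [hQ, hR]; exact Nat.pow_le_pow_right two_pos (by omega)
    have hsq : R ^ 2 = 2 * Q := by rw [hR, hQ, ← pow_succ', ← pow_mul]; ring_nf
    have h5 : 5 ∣ (Q - R + 1) * (Q + R + 1) := by
      obtain ⟨w, hw⟩ : ∃ w, Q = w + R := ⟨Q - R, by omega⟩
      have e' : (Q - R + 1) * (Q + R + 1) = Q ^ 2 + 1 := by
        rw [show Q - R = w by omega, hw]
        rw [hw] at hsq
        nlinarith
      rw [e']
      have : Q ^ 2 % 5 = 4 := by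
        rw [hQ, ← pow_mul, show (2 * m + 1) * 2 = 4 * m + 2 by ring, pow_add, pow_mul, Nat.mul_mod,
          Nat.pow_mod]
        norm_num
      omega
    rcases (show Nat.Prime 5 by norm_num).dvd_mul.1 h5 with h | h
    · exact ⟨_, Or.inr rfl, h⟩
    · exact ⟨_, Or.inl rfl, h⟩
  obtain ⟨U, hU, hUk, hcen, hN⟩ := Cfsg.Agent.S0333.result hm hF k hk
  haveI := hU
  haveI : Fact (Nat.Prime 5) := ⟨by norm_num⟩
  obtain ⟨u, hu⟩ := exists_prime_orderOf_dvd_card' (G := U) 5 (by rw [hUk]; exact h5)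
  set x : ↥(Cfsg.Sz (GaloisField 2 (2 * m + 1)) m) := (u : ↥(Cfsg.Sz (GaloisField 2 (2 * m + 1)) m)) with hx
  have hxo : orderOf x = 5 := by rw [hx, Subgroup.orderOf_coe, hu]
  set N := Subgroup.normalizer (U : Set ↥(Cfsg.Sz (GaloisField 2 (2 * m + 1)) m)) with hNdef
  have hpow : ∀ n ∈ N, ∃ j < 5, n * x * n⁻¹ = x ^ j := by
    intro n hn
    have hmem := (Subgroup.mem_normalizer_iff.1 hn x).1 u.2
    obtain ⟨j, hj, he⟩ := eq_pow_of_isCyclic (y := (⟨_, hmem⟩ : U)) (by norm_num) hu (Subtype.ext (by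
      rw [Subgroup.coe_pow, Subgroup.coe_one, conj_pow, ← hxo, pow_orderOf_eq_one, mul_one,
        mul_inv_cancel]))
    exact ⟨j, hj, congrArg Subtype.val he⟩
  have hx1 : x ≠ 1 := fun h => by rw [h, orderOf_one] at hxo; omega
  obtain ⟨y, hy, hyx⟩ : ∃ y ∈ N, y * x * y⁻¹ = x ^ 2 := by
    by_contra hcon
    push Not at hcon
    -- cosets of `U` in `N` inject into the three other powers
    choose j hj hje using fun n : N => hpow n n.2
    have hj0 : ∀ n, j n ≠ 0 ∧ j n ≠ 2 := fun n => ⟨fun h => hx1 (conj_eq_one_iff.1 (by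
      rw [hje n, h, pow_zero])), fun h => hcon n n.2 (by rw [hje n, h])⟩
    have hinj : ∀ n n' : N, j n = j n' → (n : ↥(Cfsg.Sz (GaloisField 2 (2 * m + 1)) m))⁻¹ * n' ∈ U := by
      intro n n' hnn
      rw [← hcen x u.2 hx1, Subgroup.mem_centralizer_singleton_iff, ← mul_inv_eq_iff_eq_mul]
      have e1 := hje n'
      rw [← hnn, ← hje n] at e1
      calc (n : ↥(Cfsg.Sz (GaloisField 2 (2 * m + 1)) m))⁻¹ * n' * x * ((n : ↥(Cfsg.Sz (GaloisField 2 (2 * m + 1)) m))⁻¹ * n')⁻¹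
          = (n : ↥(Cfsg.Sz (GaloisField 2 (2 * m + 1)) m))⁻¹ * ((n' : ↥(Cfsg.Sz (GaloisField 2 (2 * m + 1)) m)) * x * (n' : ↥(Cfsg.Sz (GaloisField 2 (2 * m + 1)) m))⁻¹) * n := by group
        _ = x := by rw [e1]; group
    let g : N ⧸ U.subgroupOf N → ({1, 3, 4} : Finset ℕ) := Quotient.lift
      (fun n : N => ⟨j n, by
        have := hj n
        have := hj0 n
        simp only [Finset.mem_insert, Finset.mem_singleton]
        omega⟩)
      fun n n' hnn => Subtype.ext (by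
        have hm' : (n : ↥(Cfsg.Sz (GaloisField 2 (2 * m + 1)) m))⁻¹ * n' ∈ U := Subgroup.mem_subgroupOf.1 (QuotientGroup.leftRel_apply.1 hnn)
        rw [← hcen x u.2 hx1, Subgroup.mem_centralizer_singleton_iff, ← mul_inv_eq_iff_eq_mul] at hm'
        have e2 : (n : ↥(Cfsg.Sz (GaloisField 2 (2 * m + 1)) m)) * x * (n : ↥(Cfsg.Sz (GaloisField 2 (2 * m + 1)) m))⁻¹ =
            (n' : ↥(Cfsg.Sz (GaloisField 2 (2 * m + 1)) m)) * x * (n' : ↥(Cfsg.Sz (GaloisField 2 (2 * m + 1)) m))⁻¹ := by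
          conv_lhs => rw [← hm']
          group
        rw [hje n, hje n', pow_eq_pow_iff_modEq, hxo, Nat.ModEq, Nat.mod_eq_of_lt (hj n),
          Nat.mod_eq_of_lt (hj n')] at e2
        exact e2)
    have hg : Function.Injective g := by
      rintro ⟨n⟩ ⟨n'⟩ h
      exact Quotient.sound (QuotientGroup.leftRel_apply.2 (hinj n n' (congrArg Subtype.val h)))
    have h3 := Nat.card_le_card_of_injective g hg
    have h4 := (Subgroup.card_mul_index (U.subgroupOf N)).trans hN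
    rw [Nat.card_congr (Subgroup.subgroupOfEquivOfLe Subgroup.le_normalizer).toEquiv, hUk,
      mul_comm 4 k] at h4
    have hk0 : 0 < k := hUk ▸ Nat.card_pos
    have h5' := Nat.eq_of_mul_eq_mul_left hk0 h4
    rw [← Subgroup.index, h5', Nat.card_eq_fintype_card, Fintype.card_coe] at h3
    norm_num at h3
  refine ⟨x, y, hxo, ?_, hyx⟩
  have h1 := conj_pow_iter hyx (orderOf y)
  rw [pow_orderOf_eq_one, one_mul, inv_one, mul_one] at h1
  have h2 := pow_eq_pow_iff_modEq.1 ((pow_one x).trans h1)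
  rw [hxo, Nat.ModEq] at h2
  have h4 : orderOf y % 4 < 4 := Nat.mod_lt _ (by norm_num)
  rw [← Nat.div_add_mod (orderOf y) 4, pow_add, pow_mul, Nat.mul_mod, Nat.pow_mod] at h2
  norm_num at h2
  refine Nat.dvd_of_mod_eq_zero ?_
  interval_cases h : orderOf y % 4 <;> first | rfl | (norm_num at h2)

variable {G : Type u} [Group G] [Finite G]

/-- The classification in the CIT branch. -/
theorem cit_branch (hG : CIT G) (hord : ∀ g : G, 2 ∣ orderOf g → orderOf g = 2 ∨ orderOf g = 4)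
    (hns : ¬ Group.IsSolvable G) :
    (∃ (F : Type) (_ : Field F) (_ : Fintype F), ∃ n : ℕ, 2 ≤ n ∧ Fintype.card F = 2 ^ n ∧
        IsOrd G (2 ^ n - 1) ∧ IsOrd G (2 ^ n + 1) ∧
        Nonempty (G ⧸ Cfsg.pCore 2 G ≃* Matrix.ProjectiveSpecialLinearGroup (Fin 2) F)) ∨
    (∃ (F : Type) (_ : Field F) (_ : Fintype F), (Fintype.card F = 7 ∨ Fintype.card F = 9) ∧
        Nonempty (G ≃* Matrix.ProjectiveSpecialLinearGroup (Fin 2) F)) ∨
    IsL34 G ∨
    (∃ m : ℕ, 1 ≤ m ∧ IsSimpleGroup G ∧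
      Nat.card G = (2 ^ (2 * m + 1)) ^ 2 * ((2 ^ (2 * m + 1)) ^ 2 + 1) * (2 ^ (2 * m + 1) - 1) ∧
      IsOrd G (2 ^ (2 * m + 1) - 1) ∧ IsOrd G (2 ^ (2 * m + 1) + 2 ^ (m + 1) + 1) ∧
      IsOrd G (2 ^ (2 * m + 1) - 2 ^ (m + 1) + 1)) := by
  classical
  haveI : Fact (Nat.Prime 2) := ⟨Nat.prime_two⟩
  set O := Cfsg.pCore 2 G with hO
  let π : G →* G ⧸ O := QuotientGroup.mk' O
  have hker : IsPGroup 2 π.ker := by
    rw [QuotientGroup.ker_mk']; exact Base.isPGroup_pCore 2 G
  have hπ := QuotientGroup.mk'_surjective O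
  have hY : CIT (G ⧸ O) := hG.of_surjective π hπ hker
  have hYns : ¬ Group.IsSolvable (G ⧸ O) := fun h => hns (by
    haveI := h
    haveI : Group.IsNilpotent O := (Base.isPGroup_pCore 2 G).isNilpotent
    exact Group.isSolvable_of_ker_le_range O.subtype π (by
      rw [QuotientGroup.ker_mk', Subgroup.range_subtype]))
  have hordY : ∀ y : G ⧸ O, 2 ∣ orderOf y → orderOf y = 2 ∨ orderOf y = 4 := fun y hy => by
    obtain ⟨g, hg⟩ := IsOrd.lift π hπ ⟨y, rfl⟩
    rw [← hg] at hy ⊢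
    exact hord g hy
  have hcore : Cfsg.pCore 2 (G ⧸ O) = ⊥ := Base.pCore_quotient_pCore 2 G
  obtain ⟨E, hE, hsimp, hnab, -⟩ := exists_simple_normal hY hYns hcore
  haveI := hE
  haveI := hsimp
  have hbot : ∀ X : Subgroup (G ⧸ O), IsOddType X ∨ IsL34 X → O = ⊥ := fun X hX => by
    by_contra hne
    have := not_oddType_section hG π hπ hker (by rw [QuotientGroup.ker_mk']; exact hne) X
    tauto
  let eTop : ∀ {X : Subgroup (G ⧸ O)}, X = ⊤ → X ≃* G ⧸ O := fun {X} h =>
    (MulEquiv.subgroupCongr h).trans Subgroup.topEquiv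
  let eBot : O = ⊥ → G ≃* G ⧸ O := fun h =>
    ((QuotientGroup.quotientMulEquivOfEq h).trans QuotientGroup.quotientBot).symm
  rcases known_of_cit hnab (hY.subgroup E) with ⟨⟨S, D, q, hd⟩, hkind⟩ | hodd | h34
  · have htop := eq_top_of_se hY hd
    rcases hkind with ⟨F, iF, jF, ⟨n, hn, hcard⟩, ⟨e⟩⟩ | hsz
    · refine Or.inl ⟨F, iF, jF, n, hn, hcard, ?_, ?_, ⟨(eTop htop).symm.trans e⟩⟩
      · exact IsOrd.lift π hπ (IsOrd.map E.subtype E.subtype_injective
          (isOrd_psl_even e (by omega) hcard).1)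
      · exact IsOrd.lift π hπ (IsOrd.map E.subtype E.subtype_injective
          (isOrd_psl_even e (by omega) hcard).2)
    · refine Or.inr (Or.inr (Or.inr ?_))
      obtain ⟨⟨m, hm, hq⟩, hS, -⟩ := exists_n hd hsz
      have hObot : O = ⊥ := by
        by_contra hne
        obtain ⟨x, y, hx, hy, hxy⟩ := exists_five_four hd hm hq hS
        refine false_of_five_four hG hord π hπ hker (by rw [QuotientGroup.ker_mk']; exact hne)
          (x := (x : G ⧸ O)) (y := (y : G ⧸ O)) (by rw [Subgroup.orderOf_coe, hx])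
          (by rwa [Subgroup.orderOf_coe]) ?_
        simpa using congrArg Subtype.val hxy
      let i : E ≃* G := (eTop htop).trans (eBot hObot).symm
      haveI : Nontrivial G := i.symm.toEquiv.nontrivial
      obtain ⟨o1, o2, o3⟩ := isOrd_suzuki hd hm hq hS
      refine ⟨m, hm, i.symm.isSimpleGroup, ?_, o1.map i.toMonoidHom i.injective,
        o2.map i.toMonoidHom i.injective, o3.map i.toMonoidHom i.injective⟩
      rw [← Nat.card_congr i.toEquiv, hd.card_G, hS, hq]
      ring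
  · obtain ⟨htop, F, iF, jF, hF, ⟨e⟩⟩ := eq_top_of_oddType hY hordY hcore hodd
    exact Or.inr (Or.inl ⟨F, iF, jF, hF,
      ⟨(eBot (hbot E (Or.inl hodd))).trans ((eTop htop).symm.trans e)⟩⟩)
  · have htop := eq_top_of_isL34 hY hordY h34
    obtain ⟨F, iF, jF, hF, ⟨e⟩⟩ := h34
    exact Or.inr (Or.inr (Or.inl ⟨F, iF, jF, hF,
      ⟨(eBot (hbot E (Or.inr ⟨F, iF, jF, hF, ⟨e⟩⟩))).trans ((eTop htop).symm.trans e)⟩⟩))

end CfsgLib.Recog.TwoR.Cons
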