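import Cfsg.Agent.Lib.Recog.TwoR.Consumers.Quotient

/-!
Extensions with dihedral Sylow 2-subgroups of order eight, and the module for a Frobenius group
of order twenty.
-/

set_option autoImplicit false
set_option linter.dupNamespace false
set_option linter.unusedSectionVars false
set_option linter.style.haveILetI false

namespace CfsgLib.Recog.TwoR.Cons

open CIT

universe u

variable {Y : Type u} [Group Y] [Finite Y]

/-- The cyclic subgroup of a dihedral group of order eight. -/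
theorem exists_four {D : Subgroup Y} (h8 : Nat.card D = 8) {x y a b : Y} (hx : x ∈ D) (hy : y ∈ D)
    (hxy : x * y ≠ y * x) (ha : a ∈ D) (hb : b ∈ D) (haa : a * a = 1) (hbb : b * b = 1)
    (ha1 : a ≠ 1) (hb1 : b ≠ 1) (hab : a ≠ b) :
    ∃ c ∈ D, orderOf c = 4 ∧ (∀ v ∈ D, v * v ≠ 1 → v = c ∨ v = c⁻¹) ∧
      (∀ v ∈ D, Commute v c → v ∈ Subgroup.zpowers c) ∧ ∃ r ∈ D, r * c * r⁻¹ = c⁻¹ := by
  classical
  obtain ⟨c, hc, hc2⟩ : ∃ c ∈ D, c * c ≠ 1 := by
    by_contra hall
    push Not at hall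
    refine hxy ?_
    have e : ∀ v ∈ D, v⁻¹ = v := fun v hv => inv_eq_of_mul_eq_one_right (hall v hv)
    rw [← e _ (mul_mem hx hy), mul_inv_rev, e x hx, e y hy]
  have hCD : Subgroup.zpowers c ≤ D := Subgroup.zpowers_le.2 hc
  have hord : orderOf c = 4 := by
    have hdvd : orderOf c ∣ 2 ^ 3 := by
      rw [← Nat.card_zpowers]
      exact (Subgroup.card_dvd_of_le hCD).trans (by rw [h8]; norm_num)
    obtain ⟨j, hj3, hj⟩ := (Nat.dvd_prime_pow Nat.prime_two).1 hdvd
    have hne : j ≠ 3 := by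
      rintro rfl
      have heq : Subgroup.zpowers c = D := Subgroup.eq_of_le_of_card_ge hCD (by
        rw [Nat.card_zpowers, hj, h8]; norm_num)
      obtain ⟨i, rfl⟩ := Subgroup.mem_zpowers_iff.1 (heq.ge hx)
      obtain ⟨k, rfl⟩ := Subgroup.mem_zpowers_iff.1 (heq.ge hy)
      exact hxy ((Commute.refl c).zpow_zpow i k).eq
    interval_cases j
    · exact absurd (orderOf_eq_one_iff.1 (hj.trans (pow_zero 2)) ▸ one_mul (1 : Y)) hc2
    · exact absurd (by rw [← pow_two, show (2 : ℕ) = orderOf c by simpa using hj.symm]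
                       exact pow_orderOf_eq_one c) hc2
    · simpa using hj
    · exact absurd rfl hne
  -- membership in the cyclic subgroup
  have hmem : ∀ v ∈ Subgroup.zpowers c, v = 1 ∨ v = c ∨ v = c * c ∨ v = c⁻¹ := by
    intro v hv
    rw [← mem_powers_iff_mem_zpowers] at hv
    obtain ⟨n, rfl⟩ := hv
    have h4 : c ^ 4 = 1 := hord ▸ pow_orderOf_eq_one c
    show c ^ n = 1 ∨ c ^ n = c ∨ c ^ n = c * c ∨ c ^ n = c⁻¹
    rw [pow_eq_pow_mod n h4]
    have : n % 4 < 4 := Nat.mod_lt _ (by norm_num)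
    interval_cases n % 4
    · exact Or.inl (pow_zero c)
    · exact Or.inr (Or.inl (pow_one c))
    · exact Or.inr (Or.inr (Or.inl (pow_two c)))
    · exact Or.inr (Or.inr (Or.inr (eq_inv_of_mul_eq_one_left (by rw [← pow_succ]; exact h4))))
  have hsq : ∀ v ∈ Subgroup.zpowers c, v * v = 1 → v = 1 ∨ v = c * c := by
    intro v hv hvv
    rcases hmem v hv with rfl | rfl | rfl | rfl
    · exact Or.inl rfl
    · exact absurd hvv hc2
    · exact Or.inr rfl
    · exact absurd (inv_injective (by rw [mul_inv_rev, inv_one]; exact hvv)) hc2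
  obtain ⟨r, hr, hrr, hrC⟩ : ∃ r ∈ D, r * r = 1 ∧ r ∉ Subgroup.zpowers c := by
    by_cases h : a ∈ Subgroup.zpowers c
    · refine ⟨b, hb, hbb, fun h' => hab ?_⟩
      rw [(hsq a h haa).resolve_left ha1, (hsq b h' hbb).resolve_left hb1]
    · exact ⟨a, ha, haa, h⟩
  -- index two
  set C := (Subgroup.zpowers c).subgroupOf D with hCdef
  have hidx : C.index = 2 := by
    have h1 := Subgroup.card_mul_index C
    rw [h8, Nat.card_congr (Subgroup.subgroupOfEquivOfLe hCD).toEquiv, Nat.card_zpowers, hord] at h1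
    omega
  have htwo : ∀ u v : Y, u ∈ D → v ∈ D →
      (u * v ∈ Subgroup.zpowers c ↔ (u ∈ Subgroup.zpowers c ↔ v ∈ Subgroup.zpowers c)) := by
    intro u v hu hv
    simpa [C, Subgroup.mem_subgroupOf] using
      Subgroup.mul_mem_iff_of_index_two hidx (a := (⟨u, hu⟩ : D)) (b := ⟨v, hv⟩)
  have hrinv : r⁻¹ = r := inv_eq_of_mul_eq_one_right hrr
  have hcC : c ∈ Subgroup.zpowers c := Subgroup.mem_zpowers c
  have hrc : r * c * r⁻¹ ∈ Subgroup.zpowers c := by
    rw [htwo _ _ (mul_mem hr hc) (inv_mem hr), htwo _ _ hr hc, Subgroup.inv_mem_iff]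
    tauto
  have hdec : ∀ v ∈ D, v ∈ Subgroup.zpowers c ∨ r * v ∈ Subgroup.zpowers c := by
    intro v hv
    rw [htwo _ _ hr hv]
    tauto
  have hrconj : r * c * r⁻¹ = c⁻¹ := by
    rcases hmem _ hrc with h | h | h | h
    · exact absurd (by rw [show c = 1 from conj_eq_one_iff.1 h, one_mul]) hc2
    · exfalso
      have hcomm : Commute r c := mul_inv_eq_iff_eq_mul.1 h
      have key : ∀ v ∈ D, ∃ (e : ℕ) (k : ℤ), v = r ^ e * c ^ k := by
        intro v hv
        rcases hdec v hv with h' | h'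
        · obtain ⟨k, rfl⟩ := Subgroup.mem_zpowers_iff.1 h'
          exact ⟨0, k, by simp⟩
        · obtain ⟨k, hk⟩ := Subgroup.mem_zpowers_iff.1 h'
          exact ⟨1, k, by rw [pow_one, hk, ← mul_assoc, hrr, one_mul]⟩
      obtain ⟨e, k, rfl⟩ := key x hx
      obtain ⟨e', k', rfl⟩ := key y hy
      refine hxy (Commute.eq ?_)
      refine Commute.mul_left (Commute.mul_right ?_ ?_) (Commute.mul_right ?_ ?_)
      · exact (Commute.refl r).pow_pow e e'
      · exact (hcomm.pow_left e).zpow_right k'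
      · exact (hcomm.symm.zpow_left k).pow_right e'
      · exact (Commute.refl c).zpow_zpow k k'
    · exfalso
      refine hc2 ?_
      have h2 : c * c * (c * c) = 1 := by
        rw [← pow_two, ← pow_two, ← pow_mul, show 2 * 2 = 4 by norm_num, ← hord, pow_orderOf_eq_one]
      rw [← h] at h2
      have h3 : r * (c * c) * r⁻¹ = 1 := by rw [← h2]; group
      exact conj_eq_one_iff.1 h3
    · exact h
  refine ⟨c, hc, hord, fun v hv hvv => ?_, fun v hv hvc => ?_, r, hr, hrconj⟩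
  · rcases hdec v hv with h | h
    · rcases hmem v h with rfl | rfl | rfl | rfl
      · exact absurd (one_mul 1) hvv
      · exact Or.inl rfl
      · exact absurd (by rw [← pow_two, ← pow_two, ← pow_mul, show 2 * 2 = 4 by norm_num, ← hord,
          pow_orderOf_eq_one]) hvv
      · exact Or.inr rfl
    · exfalso
      refine hvv ?_
      obtain ⟨k, hk⟩ := Subgroup.mem_zpowers_iff.1 h
      have hv' : v = r * c ^ k := by rw [hk, ← mul_assoc, hrr, one_mul]
      have hk' : r * c ^ k * r⁻¹ = (c ^ k)⁻¹ := by rw [← conj_zpow, hrconj, inv_zpow]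
      rw [hrinv] at hk'
      rw [hv', ← mul_assoc, hk', inv_mul_cancel]
  · refine (hdec v hv).elim id fun h => ?_
    exfalso
    obtain ⟨k, hk⟩ := Subgroup.mem_zpowers_iff.1 h
    have hv' : v = r * c ^ k := by rw [hk, ← mul_assoc, hrr, one_mul]
    refine hc2 (?_ : c * c = 1)
    have h1 : r * c ^ k * c * (r * c ^ k)⁻¹ = c := by
      rw [← hv', hvc.eq, mul_inv_cancel_right]
    have h2 : c ^ k * c * (c ^ k)⁻¹ = c := by
      rw [((Commute.refl c).zpow_left k).eq, mul_inv_cancel_right]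
    have h3 : r * c * r⁻¹ = c := by
      calc r * c * r⁻¹ = r * (c ^ k * c * (c ^ k)⁻¹) * r⁻¹ := by rw [h2]
        _ = r * c ^ k * c * (r * c ^ k)⁻¹ := by group
        _ = c := h1
    rw [hrconj, inv_eq_iff_mul_eq_one] at h3
    exact h3

/-- An outer involution over a dihedral Sylow 2-subgroup of order eight. -/
theorem twoOver_and_invol (hY : CIT Y)
    (hord : ∀ g : Y, 2 ∣ orderOf g → orderOf g = 2 ∨ orderOf g = 4)
    {E : Subgroup Y} [hE : E.Normal] (h16 : ¬ 16 ∣ Nat.card E) (D : Subgroup E)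
    (h8 : Nat.card D = 8) {x y a b : E} (hx : x ∈ D) (hy : y ∈ D) (hxy : x * y ≠ y * x)
    (ha : a ∈ D) (hb : b ∈ D) (haa : a * a = 1) (hbb : b * b = 1) (ha1 : a ≠ 1) (hb1 : b ≠ 1)
    (hab : a ≠ b) :
    TwoOver E ∧ (E ≠ ⊤ → ∃ v : Y, orderOf v = 2 ∧ v ∉ E) := by
  classical
  haveI : Fact (Nat.Prime 2) := ⟨Nat.prime_two⟩
  have hD2 : IsPGroup 2 D := IsPGroup.of_card (n := 3) h8
  have hidx : ¬ 2 ∣ D.index := fun hd => h16 (by
    rw [← Subgroup.card_mul_index D, h8]
    exact mul_dvd_mul_left 8 hd)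
  let P : Sylow 2 E := hD2.toSylow hidx
  set D' : Subgroup Y := D.map E.subtype with hD'
  have hinj := E.subtype_injective
  have h8' : Nat.card D' = 8 := by rw [hD', Subgroup.card_map_of_injective hinj, h8]
  have hmem : ∀ {v : E}, v ∈ D → (v : Y) ∈ D' := fun hv => Subgroup.mem_map_of_mem _ hv
  obtain ⟨c, hc, hco, hcfour, hccen, r, hr, hrc⟩ := exists_four h8' (hmem hx) (hmem hy)
    (fun h => hxy (Subtype.ext h)) (hmem ha) (hmem hb) (congrArg Subtype.val haa)
    (congrArg Subtype.val hbb) (fun h => ha1 (Subtype.ext h)) (fun h => hb1 (Subtype.ext h))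
    (fun h => hab (Subtype.ext h))
  set N := Subgroup.normalizer (D' : Set Y) with hN
  have hc4 : c ^ 4 = 1 := hco ▸ pow_orderOf_eq_one c
  have hcc : c * c ≠ 1 := fun h => by
    have := orderOf_dvd_of_pow_eq_one (x := c) (n := 2) (by rw [pow_two, h])
    rw [hco] at this; norm_num at this
  have hNc : ∀ n ∈ N, n * c * n⁻¹ = c ∨ n * c * n⁻¹ = c⁻¹ := fun n hn =>
    hcfour _ ((Subgroup.mem_normalizer_iff.1 hn c).1 hc) (fun h => hcc (by
      have : n * (c * c) * n⁻¹ = 1 := by rw [← h]; group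
      exact conj_eq_one_iff.1 this))
  have hN2 : IsPGroup 2 N := by
    have hle : N ≤ Subgroup.centralizer ({c * c} : Set Y) := fun n hn => by
      rw [Subgroup.mem_centralizer_singleton_iff, ← mul_inv_eq_iff_eq_mul]
      have : n * (c * c) * n⁻¹ = (n * c * n⁻¹) * (n * c * n⁻¹) := by group
      rw [this]
      rcases hNc n hn with h | h <;> rw [h]
      rw [← mul_inv_rev, inv_eq_iff_mul_eq_one, ← pow_two, ← pow_two, ← pow_mul]
      exact hc4
    refine (hY (c * c) ?_).to_le hle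
    rw [← pow_two, orderOf_pow' c two_ne_zero, hco]
    rfl
  have hsup : ∀ g : Y, ∃ e ∈ E, e * g ∈ N := by
    intro g
    have hg : g ∈ N ⊔ E := by
      have := Sylow.normalizer_sup_eq_top P
      rw [IsPGroup.toSylow_coe, ← hD'] at this
      rw [hN, this]
      exact Subgroup.mem_top g
    obtain ⟨n, hn, e, he, rfl⟩ := Subgroup.mem_sup_of_normal_right.1 hg
    exact ⟨n * e⁻¹ * n⁻¹, hE.conj_mem _ (inv_mem he) n, by
      rw [show n * e⁻¹ * n⁻¹ * (n * e) = n by group]; exact hn⟩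
  refine ⟨TwoOver.of_supplement hN2 hsup, fun hne => ?_⟩
  obtain ⟨s, hsN, hsE, hsq⟩ := exists_outer hN2 hsup hne
  have hD'E : D' ≤ E := Subgroup.map_subtype_le D
  have hD'N : D' ≤ N := Subgroup.le_normalizer
  -- replace `s` by an element centralising `c`
  obtain ⟨t, htN, htE, htq, htc⟩ : ∃ t ∈ N, t ∉ E ∧ t * t ∈ E ∧ t * c * t⁻¹ = c := by
    rcases hNc s hsN with h | h
    · exact ⟨s, hsN, hsE, hsq, h⟩
    refine ⟨r * s, mul_mem (hD'N hr) hsN,
      fun hm => hsE (by simpa using mul_mem (inv_mem (hD'E hr)) hm),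
      mul_sq_mem hE (hD'E hr) hsq, ?_⟩
    calc r * s * c * (r * s)⁻¹ = r * (s * c * s⁻¹) * r⁻¹ := by group
      _ = c := by rw [h, ← conj_inv, hrc, inv_inv]
  have htc' : Commute t c := mul_inv_eq_iff_eq_mul.1 htc
  have htD : t * t ∈ D' := by
    -- the maximal 2-subgroup of `E` containing `D'`
    have hR : IsPGroup 2 ↥(N ⊓ E) := hN2.to_le inf_le_left
    have hle : D' ≤ N ⊓ E := le_inf hD'N hD'E
    obtain ⟨k, hk⟩ := hR.exists_card_eq
    have hk3 : k ≤ 3 := by
      by_contra hgt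
      refine h16 ((pow_dvd_pow 2 (show 4 ≤ k by omega)).trans ?_)
      rw [← hk]
      exact Subgroup.card_dvd_of_le inf_le_right
    rw [Subgroup.eq_of_le_of_card_ge hle (by
      rw [hk, h8']; exact (Nat.pow_le_pow_right two_pos hk3).trans (by norm_num))]
    exact ⟨mul_mem htN htN, htq⟩
  have ht4 : t * t * (t * t) = 1 := by
    rw [← pow_two, ← pow_two, ← pow_mul, ← orderOf_dvd_iff_pow_eq_one]
    rcases hord t (even_of_outer htE htq) with h | h <;> rw [h]
    norm_num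
  by_cases ht2 : t * t = 1
  · exact ⟨t, EPPOTwo.orderOf_eq_two ht2 (fun h => htE (h ▸ one_mem E)), htE⟩
  have hcC := hccen _ htD (htc'.mul_left htc')
  obtain ⟨i, hi⟩ := mem_powers_iff_mem_zpowers.2 hcC
  have hi' : t * t = c * c := by
    have hlt : i % 4 < 4 := Nat.mod_lt _ (by norm_num)
    have hi4 : t * t = c ^ (i % 4) := by rw [← pow_eq_pow_mod i hc4]; exact hi.symm
    interval_cases i % 4
    · exact absurd (hi4.trans (pow_zero c)) ht2
    · rw [pow_one] at hi4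
      exact absurd (by rw [← hi4]; exact ht4) hcc
    · rw [hi4, pow_two]
    · refine absurd ?_ hcc
      rw [hi4, ← pow_add] at ht4
      rwa [← pow_two, pow_eq_pow_mod 2 hc4, show 2 % 4 = (3 + 3) % 4 from rfl,
        ← pow_eq_pow_mod _ hc4]
  refine ⟨t * c, EPPOTwo.orderOf_eq_two ?_ fun h => htE ?_,
    fun hm => htE (by simpa using mul_mem hm (inv_mem (hD'E hc)))⟩
  · calc t * c * (t * c) = t * (c * t) * c := by group
      _ = t * t * (c * c) := by rw [← htc'.eq]; group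
      _ = c ^ 4 := by rw [hi', ← pow_two, ← pow_two, ← pow_mul]
      _ = 1 := hc4
  · rw [eq_inv_of_mul_eq_one_left h]
    exact inv_mem (hD'E hc)

/-- The norm of an element of order four in the Frobenius group of order twenty. -/
theorem pow_five_of_norm {W : Type*} [CommGroup W] (σ τ : MulAut W) (hτ : τ ^ 5 = 1)
    (hfix : ∀ w, τ w = w → w = 1) (hrel : σ * τ = τ ^ 2 * σ)
    (hnorm : ∀ w, σ w * (σ ^ 2) w * (σ ^ 3) w * w = 1) (v : W) : v ^ 5 = 1 := by
  have hs : ∀ n : ℕ, ∀ i : ℕ, σ ^ n * τ ^ i = τ ^ (2 ^ n * i) * σ ^ n := by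
    intro n
    induction n with
    | zero => intro i; simp
    | succ n ih =>
      intro i
      have h1 : σ * τ ^ i = τ ^ (2 * i) * σ := by
        rw [pow_mul]; exact (SemiconjBy.pow_right (show SemiconjBy σ τ (τ ^ 2) from hrel) i).eq
      rw [pow_succ, mul_assoc, h1, ← mul_assoc, ih, mul_assoc, show 2 ^ n * (2 * i) = 2 ^ n * 2 * i by ring, pow_succ 2 n]
  have hmod : ∀ (i : ℕ) (w : W), (τ ^ i) w = (τ ^ (i % 5)) w := fun i w => by
    rw [← pow_eq_pow_mod i hτ]
  -- sums over the cyclic group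
  have hsum : ∀ k w, k % 5 ≠ 0 →
      w * (τ ^ k) w * (τ ^ (2 * k)) w * (τ ^ (3 * k)) w * (τ ^ (4 * k)) w = 1 := by
    intro k w hk
    set α := τ ^ k with hα
    have h5 : α ^ 5 = 1 := by rw [hα, ← pow_mul, mul_comm, pow_mul, hτ, one_pow]
    rw [mul_comm 2, mul_comm 3, mul_comm 4, pow_mul, pow_mul, pow_mul, ← hα]
    set z := w * α w * (α ^ 2) w * (α ^ 3) w * (α ^ 4) w with hz
    have hαz : α z = z := by
      have e : ∀ n, α ((α ^ n) w) = (α ^ (n + 1)) w := fun n => by rw [pow_succ']; rfl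
      have e1 : α (α w) = (α ^ 2) w := by rw [pow_two]; rfl
      rw [hz, map_mul, map_mul, map_mul, map_mul, e1, e, e, e, h5]
      show α w * (α ^ 2) w * (α ^ 3) w * (α ^ 4) w * w = _
      ac_rfl
    have hfixz : ∀ n, (α ^ n) z = z := by
      intro n
      induction n with
      | zero => simp
      | succ n ih => rw [pow_succ, MulAut.mul_apply, hαz, ih]
    obtain ⟨j, hj⟩ : ∃ j, k * j % 5 = 1 := by
      have : k % 5 < 5 := Nat.mod_lt _ (by norm_num)
      interval_cases h : k % 5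
      · exact absurd rfl hk
      · exact ⟨1, by omega⟩
      · exact ⟨3, by omega⟩
      · exact ⟨2, by omega⟩
      · exact ⟨4, by omega⟩
    refine hfix z ?_
    have h1 := hfixz j
    rwa [hα, ← pow_mul, hmod, hj, pow_one] at h1
  have hterm : ∀ i, (τ ^ i) (σ v) * (τ ^ (3 * i)) ((σ ^ 2) v) * (τ ^ (2 * i)) ((σ ^ 3) v) * v = 1 := by
    intro i
    have h := congrArg (fun w => (τ ^ (4 * i)) w) (hnorm ((τ ^ i) v))
    simp only [map_mul, map_one] at h
    have ma : ∀ (f f' : MulAut W) (w : W), f (f' w) = (f * f') w := fun _ _ _ => rfl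
    rw [ma σ, ma (σ ^ 2), ma (σ ^ 3),
      show σ * τ ^ i = τ ^ (2 * i) * σ by simpa using hs 1 i, hs 2 i, hs 3 i] at h
    simp only [ma, ← mul_assoc, ← pow_add] at h
    simp only [MulAut.mul_apply] at h
    rw [hmod (4 * i + 2 * i), hmod (4 * i + 2 ^ 2 * i), hmod (4 * i + 2 ^ 3 * i),
      hmod (4 * i + i)] at h
    rw [hmod i, hmod (3 * i), hmod (2 * i)]
    rw [show (4 * i + 2 * i) % 5 = i % 5 by omega, show (4 * i + 2 ^ 2 * i) % 5 = 3 * i % 5 by omega,
      show (4 * i + 2 ^ 3 * i) % 5 = 2 * i % 5 by omega, show (4 * i + i) % 5 = 0 by omega] at h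
    simpa using h
  have hprod : (τ ^ 0) (σ v) * (τ ^ (3 * 0)) ((σ ^ 2) v) * (τ ^ (2 * 0)) ((σ ^ 3) v) * v *
      ((τ ^ 1) (σ v) * (τ ^ (3 * 1)) ((σ ^ 2) v) * (τ ^ (2 * 1)) ((σ ^ 3) v) * v) *
      ((τ ^ 2) (σ v) * (τ ^ (3 * 2)) ((σ ^ 2) v) * (τ ^ (2 * 2)) ((σ ^ 3) v) * v) *
      ((τ ^ 3) (σ v) * (τ ^ (3 * 3)) ((σ ^ 2) v) * (τ ^ (2 * 3)) ((σ ^ 3) v) * v) *
      ((τ ^ 4) (σ v) * (τ ^ (3 * 4)) ((σ ^ 2) v) * (τ ^ (2 * 4)) ((σ ^ 3) v) * v) = 1 := by
    rw [hterm, hterm, hterm, hterm, hterm]; simp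
  have h1 := hsum 1 (σ v) (by norm_num)
  have h2 := hsum 3 ((σ ^ 2) v) (by norm_num)
  have h3 := hsum 2 ((σ ^ 3) v) (by norm_num)
  have key : v ^ 5 * (σ v * (τ ^ 1) (σ v) * (τ ^ (2 * 1)) (σ v) * (τ ^ (3 * 1)) (σ v) * (τ ^ (4 * 1)) (σ v)) *
      ((σ ^ 2) v * (τ ^ 3) ((σ ^ 2) v) * (τ ^ (2 * 3)) ((σ ^ 2) v) * (τ ^ (3 * 3)) ((σ ^ 2) v) *
        (τ ^ (4 * 3)) ((σ ^ 2) v)) *
      ((σ ^ 3) v * (τ ^ 2) ((σ ^ 3) v) * (τ ^ (2 * 2)) ((σ ^ 3) v) * (τ ^ (3 * 2)) ((σ ^ 3) v) *
        (τ ^ (4 * 2)) ((σ ^ 3) v)) = 1 := by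
    rw [← hprod]
    simp only [Nat.reduceMul, mul_zero, pow_zero, MulAut.one_apply]
    rw [show (5 : ℕ) = 1 + 1 + 1 + 1 + 1 from rfl, pow_add, pow_add, pow_add, pow_add, pow_one]
    ac_rfl
  rwa [h1, h2, h3, mul_one, mul_one, mul_one] at key

/-- No group with a normal 2-subgroup has an image with a Frobenius subgroup of order twenty and
even orders only two and four. -/
theorem false_of_five_four (hY : CIT Y)
    (hord : ∀ g : Y, 2 ∣ orderOf g → orderOf g = 2 ∨ orderOf g = 4) {X : Type*} [Group X]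
    (π : Y →* X) (hπ : Function.Surjective π) (hker : IsPGroup 2 π.ker) (hne : π.ker ≠ ⊥)
    {x y : X} (hx : orderOf x = 5) (hy : 4 ∣ orderOf y) (hrel : y * x * y⁻¹ = x ^ 2) : False := by
  haveI : Fact (Nat.Prime 2) := ⟨Nat.prime_two⟩
  haveI : Nontrivial π.ker := (Subgroup.nontrivial_iff_ne_bot _).2 hne
  haveI := hker.center_nontrivial
  set V : Subgroup Y := (Subgroup.center π.ker).map π.ker.subtype with hV
  haveI : V.Normal := hV ▸ inferInstance
  have hVK : ∀ v ∈ V, v ∈ π.ker ∧ ∀ n ∈ π.ker, n * v = v * n := by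
    rintro _ ⟨z, hz, rfl⟩
    exact ⟨z.2, fun n hn => congrArg Subtype.val (Subgroup.mem_center_iff.1 hz ⟨n, hn⟩)⟩
  letI : CommGroup V := { (inferInstance : Group V) with
    mul_comm := fun a b => Subtype.ext ((hVK b b.2).2 a (hVK a a.2).1) }
  obtain ⟨g, rfl⟩ := hπ y
  obtain ⟨h, rfl⟩ := hπ x
  have hg4 : 4 ∣ orderOf g := hy.trans (orderOf_map_dvd π g)
  have hho : Odd (orderOf h) := by
    by_contra hc
    have h2 : 2 ∣ orderOf h := even_iff_two_dvd.1 (Nat.not_odd_iff_even.1 hc)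
    have := orderOf_map_dvd π h
    rw [hx] at this
    rcases hord h h2 with e | e <;> rw [e] at this <;> norm_num at this
  have hh1 : h ≠ 1 := by
    rintro rfl
    rw [map_one, orderOf_one] at hx
    omega
  let σ : MulAut V := MulAut.conjNormal g
  let τ : MulAut V := MulAut.conjNormal h
  have htriv : ∀ n ∈ π.ker, (MulAut.conjNormal n : MulAut V) = 1 := fun n hn =>
    MulEquiv.ext fun v => Subtype.ext (by
      rw [MulAut.conjNormal_apply, (hVK v v.2).2 n hn, mul_inv_cancel_right]; rfl)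
  have hτ : τ ^ 5 = 1 := by
    rw [← map_pow]
    refine htriv _ ?_
    rw [MonoidHom.mem_ker, map_pow, ← hx, pow_orderOf_eq_one]
  have hfix : ∀ w, τ w = w → w = 1 := fun w hw => Subtype.ext
    (hY.eq_one_of_commute hho hh1 (EPPOTwo.isTwo_of_mem hker (hVK w w.2).1)
      (mul_inv_eq_iff_eq_mul.1 (congrArg Subtype.val hw)))
  have hrel' : σ * τ = τ ^ 2 * σ := by
    have hn : h ^ 2 * g * (g * h)⁻¹ ∈ π.ker := by
      rw [MonoidHom.mem_ker, map_mul, map_mul, map_inv, map_mul, map_pow, ← hrel]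
      group
    have := htriv _ hn
    rw [map_mul, map_inv, mul_inv_eq_one, map_mul, map_mul, map_pow] at this
    exact this.symm
  have hnorm : ∀ w, σ w * (σ ^ 2) w * (σ ^ 3) w * w = 1 := by
    intro w
    have hgw : ∀ u : Y, π u = π g → u ^ 4 = 1 := fun u hu => by
      have h4 : 4 ∣ orderOf u := hy.trans (hu ▸ orderOf_map_dvd π u)
      rw [← orderOf_dvd_iff_pow_eq_one]
      rcases hord u (dvd_trans (by norm_num) h4) with e | e <;> rw [e]
      norm_num
    have h1 := hgw g rfl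
    have h2 := hgw (g * w) (by rw [map_mul, (hVK w w.2).1, mul_one])
    rw [← map_pow, ← map_pow]
    refine Subtype.ext ?_
    simp only [σ, Subgroup.coe_mul, Subgroup.coe_one, MulAut.conjNormal_apply]
    rw [← h2]
    simp only [pow_succ, pow_zero, one_mul, mul_inv_rev, mul_assoc, inv_mul_cancel_left]
    rw [show g⁻¹ * (g⁻¹ * (g⁻¹ * (w : Y))) = g * w by
      rw [← mul_assoc, ← mul_assoc]
      congr 1
      rw [← mul_left_inj g, ← mul_left_inj g, ← mul_left_inj g]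
      simp only [inv_mul_cancel_right, inv_mul_cancel]
      rw [← h1]; simp only [pow_succ, pow_zero, one_mul]]
  obtain ⟨z, hz, hz1⟩ := V.bot_or_exists_ne_one.resolve_left (fun hb =>
    (Subgroup.nontrivial_iff_ne_bot _).1 ‹Nontrivial (Subgroup.center π.ker)›
      ((Subgroup.map_eq_bot_iff_of_injective _ π.ker.subtype_injective).1 hb))
  have h5 := congrArg Subtype.val (pow_five_of_norm σ τ hτ hfix hrel' hnorm ⟨z, hz⟩)
  obtain ⟨k, hk⟩ := hker ⟨z, (hVK z hz).1⟩
  have hk' : z ^ 2 ^ k = 1 := congrArg Subtype.val hk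
  have := pow_gcd_eq_one.2 (⟨hk', h5⟩ : z ^ 2 ^ k = 1 ∧ z ^ 5 = 1)
  rw [(show Nat.Coprime (2 ^ k) 5 from (Nat.Coprime.pow_left k (by norm_num))).gcd_eq_one,
    pow_one] at this
  exact hz1 this

end CfsgLib.Recog.TwoR.Cons
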