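import Cfsg.Agent.Lib.Recog.TwoR.Defs
import Cfsg.Agent.Lib.Recog.CIT.Basic

/-!
Element orders in finite groups in which no prime divides three element orders, and in groups
with at most one composite element order.
-/

set_option autoImplicit false
set_option linter.dupNamespace false

namespace CfsgLib.Recog.TwoR.Cons

variable {G : Type*} [Group G]

/-- `n` is the order of an element of `G`. -/
def IsOrd (G : Type*) [Group G] (n : ℕ) : Prop := ∃ g : G, orderOf g = n

theorem IsOrd.pos [Finite G] {n : ℕ} (h : IsOrd G n) : 0 < n := by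
  obtain ⟨g, rfl⟩ := h
  exact orderOf_pos g

theorem IsOrd.of_dvd [Finite G] {n d : ℕ} (h : IsOrd G n) (hd : d ∣ n) : IsOrd G d := by
  obtain ⟨g, rfl⟩ := h
  refine ⟨g ^ (orderOf g / d), ?_⟩
  obtain ⟨e, he⟩ := hd
  have h0 := orderOf_pos g
  have hd0 : 0 < d := Nat.pos_of_ne_zero (by rintro rfl; rw [Nat.zero_mul] at he; omega)
  have he0 : 0 < e := Nat.pos_of_ne_zero (by rintro rfl; rw [Nat.mul_zero] at he; omega)
  rw [he, Nat.mul_div_cancel_left _ hd0, orderOf_pow' g he0.ne', he,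
    Nat.gcd_eq_right (dvd_mul_left _ _), Nat.mul_div_cancel _ he0]

theorem IsOrd.map {H : Type*} [Group H] (f : G →* H) (hf : Function.Injective f) {n : ℕ}
    (h : IsOrd G n) : IsOrd H n := by
  obtain ⟨g, rfl⟩ := h
  exact ⟨f g, orderOf_injective f hf g⟩

theorem IsOrd.lift [Finite G] {H : Type*} [Group H] (f : G →* H) (hf : Function.Surjective f)
    {n : ℕ} (h : IsOrd H n) : IsOrd G n := by
  obtain ⟨y, rfl⟩ := h
  obtain ⟨g, rfl⟩ := hf y
  exact IsOrd.of_dvd ⟨g, rfl⟩ (orderOf_map_dvd f g)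

/-- No prime divides three pairwise distinct element orders. -/
def ThreeFree (G : Type*) [Group G] : Prop :=
  ∀ p : ℕ, p.Prime → ∀ a b c : G, orderOf a ≠ orderOf b → orderOf b ≠ orderOf c →
    orderOf a ≠ orderOf c → ¬ (p ∣ orderOf a ∧ p ∣ orderOf b ∧ p ∣ orderOf c)

theorem ThreeFree.eq_or (h : ThreeFree G) {p : ℕ} (hp : p.Prime) {a b c : ℕ} (ha : IsOrd G a)
    (hb : IsOrd G b) (hc : IsOrd G c) (h1 : p ∣ a) (h2 : p ∣ b) (h3 : p ∣ c) :
    a = b ∨ b = c ∨ a = c := by
  obtain ⟨x, rfl⟩ := ha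
  obtain ⟨y, rfl⟩ := hb
  obtain ⟨z, rfl⟩ := hc
  by_contra hne
  push Not at hne
  exact h p hp x y z hne.1 hne.2.1 hne.2.2 ⟨h1, h2, h3⟩

/-- An element order is a product of at most two primes. -/
theorem ThreeFree.length_le [Finite G] (h : ThreeFree G) {n : ℕ} (hn : IsOrd G n) :
    n.primeFactorsList.length ≤ 2 := by
  by_contra hlen
  obtain ⟨a, b, c, l, hl⟩ : ∃ a b c l, n.primeFactorsList = a :: b :: c :: l := by
    match n.primeFactorsList, hlen with
    | [], hh => simp at hh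
    | [_], hh => simp at hh
    | [_, _], hh => simp at hh
    | a :: b :: c :: l, _ => exact ⟨a, b, c, l, rfl⟩
  have hpr : ∀ x ∈ a :: b :: c :: l, Nat.Prime x := fun x hx =>
    Nat.prime_of_mem_primeFactorsList (hl ▸ hx)
  have hprod : a * (b * (c * l.prod)) = n := by
    have := Nat.prod_primeFactorsList hn.pos.ne'
    rw [hl] at this
    simpa using this
  have ha := hpr a (by simp)
  have hb := hpr b (by simp)
  have hc := hpr c (by simp)
  have d1 : IsOrd G a := hn.of_dvd ⟨_, hprod.symm⟩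
  have d2 : IsOrd G (a * b) := hn.of_dvd ⟨c * l.prod, by rw [← hprod]; ring⟩
  have d3 : IsOrd G (a * b * c) := hn.of_dvd ⟨l.prod, by rw [← hprod]; ring⟩
  have l1 : a < a * b := lt_mul_of_one_lt_right ha.pos hb.one_lt
  have l2 : a * b < a * b * c := lt_mul_of_one_lt_right (Nat.mul_pos ha.pos hb.pos) hc.one_lt
  have := h.eq_or ha d1 d2 d3 dvd_rfl (dvd_mul_right _ _)
    ((dvd_mul_right _ _).trans (dvd_mul_right _ _))
  omega

/-- Either all even orders are two or four, or there are exactly the two orders `2`, `2r`. -/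
theorem ThreeFree.dichotomy [Finite G] (h : ThreeFree G) :
    (∀ g : G, 2 ∣ orderOf g → orderOf g = 2 ∨ orderOf g = 4) ∨
      ∃ r, Ord2r G r ∧ ∃ g : G, orderOf g = 2 * r := by
  refine or_iff_not_imp_left.2 fun hne => ?_
  push Not at hne
  obtain ⟨g, hg2, hgn2, hgn4⟩ := hne
  obtain ⟨r, hr⟩ := hg2
  have hg : IsOrd G (orderOf g) := ⟨g, rfl⟩
  have h2 : IsOrd G 2 := hg.of_dvd ⟨r, hr⟩
  have hlen := h.length_le hg
  have hr0 : r ≠ 0 := by rintro rfl; have := orderOf_pos g; omega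
  have hperm := (Nat.perm_primeFactorsList_mul two_ne_zero hr0).length_eq
  rw [← hr, List.length_append, Nat.primeFactorsList_prime Nat.prime_two,
    List.length_singleton] at hperm
  obtain ⟨x, hx⟩ : ∃ x, r.primeFactorsList = [x] := by
    match hl : r.primeFactorsList with
    | [] =>
      exfalso
      have := Nat.prod_primeFactorsList hr0
      rw [hl, List.prod_nil] at this
      omega
    | [x] => exact ⟨x, rfl⟩
    | _ :: _ :: _ => rw [hl] at hperm; simp at hperm; omega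
  have hxr : x = r := by
    have := Nat.prod_primeFactorsList hr0
    rw [hx] at this
    simpa using this
  have hp : r.Prime := Nat.prime_of_mem_primeFactorsList (hx ▸ List.mem_singleton.2 hxr.symm)
  have hodd : Odd r := hp.odd_of_ne_two (by rintro rfl; omega)
  have hrd : IsOrd G r := hg.of_dvd ⟨2, by rw [hr]; ring⟩
  refine ⟨r, ⟨hp, hodd, fun y hy => ?_, fun y hy => ?_⟩, g, hr⟩
  · have := h.eq_or Nat.prime_two h2 hg ⟨y, rfl⟩ dvd_rfl ⟨r, hr⟩ hy
    omega
  · have := h.eq_or hp hrd hg ⟨y, rfl⟩ dvd_rfl ⟨2, by rw [hr]; ring⟩ hy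
    omega

open CIT in
/-- If all even orders are two or four, involution centralisers are 2-groups. -/
theorem cit_of_orders [Finite G] (h : ∀ g : G, 2 ∣ orderOf g → orderOf g = 2 ∨ orderOf g = 4) :
    CIT.CIT G := by
  intro t ht
  refine EPPOTwo.isPGroup_of_isTwo fun y hy => ?_
  have hc : Commute y t := Subgroup.mem_centralizer_singleton_iff.1 hy
  obtain ⟨k, m, hm, hk⟩ := Nat.exists_eq_two_pow_mul_odd (orderOf_pos y).ne'
  set x := y ^ 2 ^ k with hx
  have hxo : orderOf x = m := by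
    rw [hx, orderOf_pow' y (pow_ne_zero _ two_ne_zero), hk, Nat.gcd_eq_right (dvd_mul_right _ _),
      Nat.mul_div_cancel_left _ (by positivity)]
  have h2m : Nat.Coprime (orderOf t) (orderOf x) := by
    rw [ht, hxo]; exact Nat.coprime_two_left.2 hm
  have hord := (hc.symm.pow_right _).orderOf_mul_eq_mul_orderOf_of_coprime h2m
  rw [ht, hxo] at hord
  have := h (t * x) ⟨m, hord⟩
  rw [hord] at this
  obtain rfl : m = 1 := by
    rcases hm with ⟨j, rfl⟩
    omega
  exact ⟨k, orderOf_dvd_iff_pow_eq_one.1 (by rw [hk, mul_one])⟩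

/-- At most one element order is composite. -/
def OneComp (G : Type*) [Group G] : Prop :=
  {n : ℕ | n ∈ Set.range (orderOf : G → ℕ) ∧ 1 < n ∧ ¬ n.Prime}.Subsingleton

theorem OneComp.eq (h : OneComp G) {a b : ℕ} (ha : IsOrd G a) (hb : IsOrd G b) (ha1 : 1 < a)
    (ha2 : ¬ a.Prime) (hb1 : 1 < b) (hb2 : ¬ b.Prime) : a = b :=
  h ⟨ha, ha1, ha2⟩ ⟨hb, hb1, hb2⟩

/-- A composite order has only prime or trivial proper divisors. -/
theorem OneComp.prime_of_dvd [Finite G] (h : OneComp G) {n d : ℕ} (hn : IsOrd G n)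
    (hn2 : ¬ n.Prime) (hd : d ∣ n) (hd1 : 1 < d) (hdn : d < n) : d.Prime := by
  by_contra hd2
  exact hdn.ne (h.eq (hn.of_dvd hd) hn hd1 hd2 (hd1.trans hdn) hn2)

theorem OneComp.threeFree [Finite G] (h : OneComp G) : ThreeFree G := by
  intro p hp a b c hab hbc hac hpd
  obtain ⟨ha, hb, hc⟩ := hpd
  have key : ∀ x : G, p ∣ orderOf x → orderOf x ≠ p → 1 < orderOf x ∧ ¬ (orderOf x).Prime :=
    fun x hx hne => ⟨hp.one_lt.trans_le (Nat.le_of_dvd (orderOf_pos x) hx), fun hpr =>
      hne ((Nat.prime_dvd_prime_iff_eq hp hpr).1 hx).symm⟩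
  have key2 : ∀ x y : G, p ∣ orderOf x → p ∣ orderOf y → orderOf x ≠ p → orderOf y ≠ p →
      orderOf x = orderOf y := fun x y hx hy hxn hyn =>
    h.eq ⟨x, rfl⟩ ⟨y, rfl⟩ (key x hx hxn).1 (key x hx hxn).2 (key y hy hyn).1 (key y hy hyn).2
  by_cases h1 : orderOf a = p
  · exact hbc (key2 b c hb hc (fun e => hab (h1.trans e.symm)) fun e => hac (h1.trans e.symm))
  by_cases h2 : orderOf b = p
  · exact hac (key2 a c ha hc h1 fun e => hbc (h2.trans e.symm))
  exact hab (key2 a b ha hb h1 h2)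

end CfsgLib.Recog.TwoR.Cons
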