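import Cfsg.Agent.Lib.Recog.TwoR.Consumers.Orders
import Cfsg.Agent.Lib.Recog.CIT.SEKnown
import Cfsg.Agent.Lib.Recog.CIT.Eppo.SuzukiSylow
import Cfsg.Agent.Lib.Involutions.FourSwallow

/-!
Overgroups of a normal subgroup in groups in which involution centralisers are 2-groups.
-/

set_option autoImplicit false
set_option linter.dupNamespace false
set_option linter.unusedSectionVars false
set_option linter.style.haveILetI false

namespace CfsgLib.Recog.TwoR.Cons

open CIT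

universe u

variable {Y : Type u} [Group Y] [Finite Y]

/-- Every element has a 2-power power in `E`. -/
def TwoOver (E : Subgroup Y) : Prop := ∀ g : Y, ∃ k : ℕ, g ^ 2 ^ k ∈ E

theorem TwoOver.mem_of_odd {E : Subgroup Y} (h : TwoOver E) {x : Y} (hx : Odd (orderOf x)) :
    x ∈ E := by
  obtain ⟨k, hk⟩ := h x
  obtain ⟨j, hj⟩ := exists_pow_eq_self_of_coprime (n := 2 ^ k) (x := x)
    ((Nat.coprime_two_left.2 hx).pow_left k)
  exact hj ▸ pow_mem hk j

theorem TwoOver.of_supplement {E : Subgroup Y} [E.Normal] {T : Subgroup Y} (hT : IsPGroup 2 T)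
    (hsup : ∀ g : Y, ∃ e ∈ E, e * g ∈ T) : TwoOver E := by
  intro g
  obtain ⟨e, he, hg⟩ := hsup g
  obtain ⟨k, hk⟩ := hT ⟨_, hg⟩
  refine ⟨k, (QuotientGroup.eq_one_iff _).1 ?_⟩
  have : (((e * g) ^ 2 ^ k : Y) : Y ⧸ E) = 1 := by
    rw [show (e * g) ^ 2 ^ k = 1 from congrArg Subtype.val hk]; rfl
  rw [QuotientGroup.mk_pow, QuotientGroup.mk_mul, (QuotientGroup.eq_one_iff e).2 he, one_mul] at this
  rwa [QuotientGroup.mk_pow]

/-- An element outside `E` with square in `E`, taken in a supplement. -/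
theorem exists_outer {E : Subgroup Y} {T : Subgroup Y} (hT : IsPGroup 2 T)
    (hsup : ∀ g : Y, ∃ e ∈ E, e * g ∈ T) (hne : E ≠ ⊤) : ∃ s ∈ T, s ∉ E ∧ s * s ∈ E := by
  classical
  obtain ⟨g, hg⟩ : ∃ g, g ∉ E := by
    by_contra hc
    push Not at hc
    exact hne (eq_top_iff.2 fun x _ => hc x)
  obtain ⟨e, he, ht⟩ := hsup g
  have htE : e * g ∉ E := fun h => hg (by simpa using mul_mem (inv_mem he) h)
  obtain ⟨k, hk⟩ := hT ⟨_, ht⟩
  have hex : ∃ k, (e * g) ^ 2 ^ k ∈ E := ⟨k, by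
    rw [show (e * g) ^ 2 ^ k = 1 from congrArg Subtype.val hk]; exact one_mem E⟩
  have hspec := Nat.find_spec hex
  rcases hj : Nat.find hex with _ | j
  · rw [hj, pow_zero, pow_one] at hspec; exact absurd hspec htE
  refine ⟨(e * g) ^ 2 ^ j, pow_mem ht _, Nat.find_min hex (by omega), ?_⟩
  rw [hj, pow_succ, pow_mul, pow_two] at hspec
  exact hspec

theorem even_of_outer {E : Subgroup Y} {s : Y} (hs : s ∉ E) (hsq : s * s ∈ E) : 2 ∣ orderOf s := by
  by_contra h
  obtain ⟨j, hj⟩ := exists_pow_eq_self_of_coprime (n := 2) (x := s)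
    (Nat.coprime_two_left.2 (Nat.odd_iff.2 (by omega)))
  exact hs (hj ▸ pow_mem (by rwa [pow_two]) j)

/-- An outer element with square inside commutes with no element of odd order. -/
theorem no_outer_commute (hY : CIT Y) {E : Subgroup Y} {s x : Y} (hs : s ∉ E) (hsq : s * s ∈ E)
    (hx : Odd (orderOf x)) (hx1 : x ≠ 1) : ¬ Commute s x := fun hc => by
  have ht := orderOf_pow_orderOf_div (x := s) (orderOf_pos s).ne' (even_of_outer hs hsq)
  exact hx1 (eq_one_of_odd_isTwo hx (hY.two_element ht (hc.pow_left _)))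

theorem mul_sq_mem {E : Subgroup Y} (hE : E.Normal) {u s : Y} (hu : u ∈ E) (hsq : s * s ∈ E) :
    u * s * (u * s) ∈ E := by
  have : u * s * (u * s) = u * (s * u * s⁻¹) * (s * s) := by group
  rw [this]
  exact mul_mem (mul_mem hu (hE.conj_mem _ hu s)) hsq

/-- A normal simple subgroup with a strongly embedded subgroup is the whole group. -/
theorem eq_top_of_se (hY : CIT Y) {E : Subgroup Y} [hE : E.Normal] {S D : Subgroup E} {q : ℕ}
    (h : SEData E S D q) : E = ⊤ := by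
  classical
  have hcE : CIT E := hY.subgroup E
  have hodd : ∀ d ∈ D, Odd (orderOf d) := fun d hd =>
    odd_orderOf_of_mem (Eppo.SEData.cit_odd_D h) hd
  have h4 := h.four_le
  obtain ⟨⟨t, htS, hto⟩⟩ : Nonempty {t : E // t ∈ S ∧ orderOf t = 2} :=
    (Nat.card_pos_iff.1 (by rw [h.card_invol]; omega)).1
  have htY : orderOf (t : Y) = 2 := by rwa [Subgroup.orderOf_coe]
  -- one class of involutions
  have hsup : ∀ g : Y, ∃ e ∈ E, e * g ∈ Subgroup.centralizer ({(t : Y)} : Set Y) := by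
    intro g
    set x : E := MulAut.conjNormal g t with hx
    have hxo : orderOf x = 2 := by rw [hx, MulEquiv.orderOf_eq, hto]
    obtain ⟨a, haS, -⟩ := Eppo.SEData.centralizer_invol h hxo
    have hao : orderOf (a⁻¹ * x * a) = 2 := by
      rw [show a⁻¹ * x * a = MulAut.conj a⁻¹ x by simp, MulEquiv.orderOf_eq, hxo]
    obtain ⟨d, -, hd⟩ := h.trans _ haS t htS hao hto
    refine ⟨((d * a⁻¹ : E) : Y), SetLike.coe_mem _, Subgroup.mem_centralizer_singleton_iff.2 ?_⟩
    have h1 : d * a⁻¹ * x * (d * a⁻¹)⁻¹ = t := by rw [← hd]; group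
    have h2 := congrArg (Subtype.val : E → Y) h1
    simp only [hx, Subgroup.coe_mul, Subgroup.coe_inv, MulAut.conjNormal_apply] at h2
    rw [← mul_inv_eq_iff_eq_mul]
    rw [Subgroup.coe_mul, Subgroup.coe_inv]
    conv_rhs => rw [← h2]
    group
  by_contra hne
  obtain ⟨s, hs, hsE, hsq⟩ := exists_outer (hY t htY) hsup hne
  have hst : s * (t : Y) = t * s := Subgroup.mem_centralizer_singleton_iff.1 hs
  let σ : MulAut E := MulAut.conjNormal s
  have hσt : σ t = t := Subtype.ext (by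
    rw [MulAut.conjNormal_apply, hst, mul_inv_cancel_right])
  have hC : ∀ v : E, v ∈ S ↔ v * t = t * v := fun v => by
    rw [← h.centralizer_eq t htS hto, Subgroup.mem_centralizer_singleton_iff]
  have hσS : ∀ v : E, v ∈ S → σ v ∈ S := fun v hv => (hC _).2 (by
    have := congrArg σ ((hC v).1 hv)
    rwa [map_mul, map_mul, hσt] at this)
  have hσS' : ∀ v : E, σ v ∈ S → v ∈ S := fun v hv => (hC _).2 (σ.injective (by
    rw [map_mul, map_mul, hσt]; exact (hC _).1 hv))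
  let w₂ : E := ⟨s * s, hsq⟩
  have hw₂ : w₂ ∈ S := (hC _).2 (Subtype.ext (by
    show s * s * t = t * (s * s)
    rw [mul_assoc, hst, ← mul_assoc, hst, mul_assoc]))
  -- `N_E(S) = S D`
  have hSD : ∀ v ∈ Subgroup.normalizer (S : Set E), ∃ u ∈ S, ∃ d ∈ D, v = u * d := by
    let f : S × D → (Subgroup.normalizer (S : Set E)) := fun p =>
      ⟨p.1 * p.2, mul_mem (Subgroup.le_normalizer p.1.2) (h.le_norm p.2.2)⟩
    have hf : Function.Injective f := by
      rintro ⟨⟨u, hu⟩, ⟨d, hd⟩⟩ ⟨⟨u', hu'⟩, ⟨d', hd'⟩⟩ he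
      have he' : u * d = u' * d' := congrArg Subtype.val he
      have e1 : u'⁻¹ * u = d' * d⁻¹ := by
        calc u'⁻¹ * u = u'⁻¹ * (u * d) * d⁻¹ := by group
          _ = _ := by rw [he']; group
      have hdd : d' * d⁻¹ ∈ D := mul_mem hd' (inv_mem hd)
      have h1 : d' * d⁻¹ = 1 := eq_one_of_odd_isTwo (hodd _ hdd)
        (EPPOTwo.isTwo_of_mem h.isP (e1 ▸ mul_mem (inv_mem hu') hu))
      obtain rfl : d' = d := mul_inv_eq_one.1 h1
      obtain rfl : u = u' := mul_right_cancel he'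
      rfl
    have hsurj := hf.bijective_of_nat_card_le (by rw [Nat.card_prod, h.card_norm, h.card_D])
    intro v hv
    obtain ⟨⟨⟨u, hu⟩, ⟨d, hd⟩⟩, he⟩ := hsurj.2 ⟨v, hv⟩
    exact ⟨u, hu, d, hd, (congrArg Subtype.val he).symm⟩
  have hconj : ∀ e ∈ D, ∀ v ∈ S, e * v * e⁻¹ ∈ S := fun e he v hv => Eppo.SEData.conj_mem h he hv
  -- twisting by `S`
  have twist : ∀ e ∈ D, e ≠ 1 → ∀ x ∈ S, ∃ u ∈ S, u * (x * e) * u⁻¹ = e := by
    intro e he he1 x hx
    let f : S → S := fun v => ⟨(v : E)⁻¹ * (e * v * e⁻¹), mul_mem (inv_mem v.2) (hconj e he v v.2)⟩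
    have hf : Function.Injective f := fun v v' hvv => by
      have h1 : (v : E)⁻¹ * (e * v * e⁻¹) = (v' : E)⁻¹ * (e * v' * e⁻¹) := congrArg Subtype.val hvv
      have h2 : e * ((v : E) * (v' : E)⁻¹) * e⁻¹ = v * (v' : E)⁻¹ := by
        calc e * ((v : E) * (v' : E)⁻¹) * e⁻¹ = v * ((v : E)⁻¹ * (e * v * e⁻¹)) *
            (((v' : E)⁻¹ * (e * v' * e⁻¹))⁻¹ * (v' : E)⁻¹) := by group
          _ = _ := by rw [h1]; group
      exact Subtype.ext (mul_inv_eq_one.1
        (Eppo.SEData.eq_one_of_fixed h hcE he he1 (mul_mem v.2 (inv_mem v'.2)) h2))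
    obtain ⟨u, hu⟩ := (Finite.injective_iff_surjective.1 hf) ⟨x, hx⟩
    refine ⟨u, u.2, ?_⟩
    rw [← show (u : E)⁻¹ * (e * u * e⁻¹) = x from congrArg Subtype.val hu]
    group
  -- elements `u s` act through `σ`
  have act : ∀ (u e e' : E), u * σ e * u⁻¹ = e' → (u : Y) * s * e * ((u : Y) * s)⁻¹ = e' := by
    intro u e e' hh
    rw [← hh]
    simp only [σ, Subgroup.coe_mul, Subgroup.coe_inv, MulAut.conjNormal_apply]
    group
  have key : ∀ e ∈ D, e ≠ 1 → ∀ x ∈ S, σ e ≠ x * e := by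
    intro e he he1 x hx heq
    obtain ⟨u, -, hue⟩ := twist e he he1 x hx
    have hfix := act u e e (by rw [heq, hue])
    refine no_outer_commute hY (fun hm => hsE ?_) (mul_sq_mem hE u.2 hsq)
      (x := (e : Y)) (by rw [Subgroup.orderOf_coe]; exact hodd e he)
      (fun h1 => he1 (Subtype.ext h1)) (mul_inv_eq_iff_eq_mul.1 hfix)
    simpa using mul_mem (inv_mem u.2) hm
  obtain ⟨d, hd, hd1⟩ : ∃ d ∈ D, d ≠ 1 := by
    rcases D.bot_or_exists_ne_one with hb | hb
    · have := h.card_D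
      rw [hb, Subgroup.card_bot] at this
      omega
    · exact hb
  haveI := h.cyclic_D
  have hDc : ∀ a ∈ D, ∀ b ∈ D, a * b = b * a := fun a ha b hb => by
    haveI := IsCyclic.isMulCommutative (α := D)
    exact congrArg Subtype.val (mul_comm' (⟨a, ha⟩ : D) ⟨b, hb⟩)
  obtain ⟨u₀, hu₀, d', hd', hσd⟩ := hSD (σ d) (Subgroup.mem_normalizer_fintype fun v hv => by
    obtain ⟨v', rfl⟩ := σ.surjective v
    rw [← map_inv σ d, ← map_mul, ← map_mul]
    exact hσS _ (hconj d hd v' (hσS' v' hv)))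
  have hσd' : ∃ u₁ ∈ S, σ d' = u₁ * d := by
    refine ⟨σ u₀⁻¹ * (w₂ * (d * w₂⁻¹ * d⁻¹)),
      mul_mem (hσS _ (inv_mem hu₀)) (mul_mem hw₂ (hconj d hd _ (inv_mem hw₂))), ?_⟩
    rw [show d' = u₀⁻¹ * σ d by rw [hσd]; group, map_mul]
    have : σ (σ d) = w₂ * d * w₂⁻¹ := Subtype.ext (by
      simp only [σ, w₂, Subgroup.coe_mul, Subgroup.coe_inv, MulAut.conjNormal_apply]
      group)
    rw [this]
    group
  have hdd : d * d' = 1 := by
    by_contra hne1
    obtain ⟨u₁, hu₁, hσd'⟩ := hσd'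
    refine key _ (mul_mem hd hd') hne1 _ (mul_mem hu₀ (hconj d' hd' u₁ hu₁)) ?_
    rw [map_mul, hσd, hσd', hDc d hd d' hd']
    group
  obtain rfl : d' = d⁻¹ := eq_inv_of_mul_eq_one_right hdd
  obtain ⟨u, -, hu⟩ := twist d⁻¹ (inv_mem hd) (inv_ne_one.2 hd1) u₀ hu₀
  have hinv := act u d d⁻¹ (by rw [hσd, hu])
  obtain ⟨w, -, -, hw⟩ := h.inverter
  have hwd := congrArg (Subtype.val : E → Y) (hw d⁻¹ (inv_mem hd))
  simp only [Subgroup.coe_mul, Subgroup.coe_inv, inv_inv] at hwd hinv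
  refine no_outer_commute hY (E := E) (s := (w : Y) * ((u : Y) * s)) (x := (d : Y))
    (fun hm => hsE ?_) (mul_sq_mem hE w.2 (mul_sq_mem hE u.2 hsq))
    (by rw [Subgroup.orderOf_coe]; exact hodd d hd) (fun h1 => hd1 (Subtype.ext h1)) ?_
  · simpa using mul_mem (inv_mem u.2) (mul_mem (inv_mem w.2) hm)
  · show (w : Y) * ((u : Y) * s) * d = d * ((w : Y) * ((u : Y) * s))
    rw [← mul_inv_eq_iff_eq_mul]
    calc (w : Y) * ((u : Y) * s) * d * ((w : Y) * ((u : Y) * s))⁻¹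
        = w * ((u : Y) * s * d * ((u : Y) * s)⁻¹) * (w : Y)⁻¹ := by group
      _ = _ := by rw [hinv, hwd]

theorem conj_pow_iter {g x : Y} {i : ℕ} (h : g * x * g⁻¹ = x ^ i) (n : ℕ) :
    g ^ n * x * (g ^ n)⁻¹ = x ^ i ^ n := by
  induction n with
  | zero => simp
  | succ n ih =>
    rw [pow_succ' g, show g * g ^ n * x * (g * g ^ n)⁻¹ = g * (g ^ n * x * (g ^ n)⁻¹) * g⁻¹ by group,
      ih, ← conj_pow, h, ← pow_mul, ← pow_succ']

/-- A 2-extension with a Frobenius subgroup of odd order around a Sylow subgroup of prime order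
is trivial. -/
theorem eq_top_of_frob (hord : ∀ g : Y, 2 ∣ orderOf g → orderOf g = 2 ∨ orderOf g = 4)
    {E : Subgroup Y} [E.Normal] (hTO : TwoOver E) {p : ℕ} (hp : p.Prime)
    (hp2 : ¬ p * p ∣ Nat.card E) {x a : E} (hx : orderOf x = p) (ha : Odd (orderOf a))
    {j : ℕ} (hax : a * x * a⁻¹ = x ^ j) (hne : x ^ j ≠ x) : E = ⊤ := by
  haveI := Fact.mk hp
  have hcard : Nat.card (Subgroup.zpowers x) = p ^ 1 := by rw [Nat.card_zpowers, hx, pow_one]
  have hidx : ¬ p ∣ (Subgroup.zpowers x).index := fun hd => hp2 (by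
    rw [← Subgroup.card_mul_index (Subgroup.zpowers x), hcard, pow_one]
    exact mul_dvd_mul_left p hd)
  let P : Sylow p E := (IsPGroup.of_card hcard).toSylow hidx
  have hPco : (P : Subgroup E) = Subgroup.zpowers x := IsPGroup.toSylow_coe _ _
  by_contra hE
  obtain ⟨g, hgN, hgE⟩ : ∃ g ∈ Subgroup.normalizer
      (((P : Subgroup E).map E.subtype : Subgroup Y) : Set Y), g ∉ E := by
    by_contra hc
    push Not at hc
    exact hE (top_le_iff.1 ((Sylow.normalizer_sup_eq_top P).ge.trans (sup_le hc le_rfl)))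
  rw [hPco, MonoidHom.map_zpowers] at hgN
  obtain ⟨i, hi⟩ : ∃ i : ℕ, g * (x : Y) * g⁻¹ = (x : Y) ^ i := by
    have := (Subgroup.mem_normalizer_iff.1 hgN (x : Y)).1 (Subgroup.mem_zpowers _)
    obtain ⟨i, hi⟩ := mem_powers_iff_mem_zpowers.2 this
    exact ⟨i, hi.symm⟩
  have hax' : (a : Y) * x * (a : Y)⁻¹ = (x : Y) ^ j := by
    have := congrArg (Subtype.val : E → Y) hax
    simpa using this
  have hfour : ∀ y : Y, y ∉ E → y ^ 4 = 1 := fun y hy => by
    have h2 : 2 ∣ orderOf y := by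
      by_contra h
      exact hy (hTO.mem_of_odd (Nat.odd_iff.2 (by omega)))
    rw [← orderOf_dvd_iff_pow_eq_one]
    rcases hord y h2 with h | h <;> rw [h]
    norm_num
  have hga : g * (a : Y) ∉ E := fun hm => hgE (by simpa using mul_mem hm (inv_mem a.2))
  have hgai : g * a * x * (g * a)⁻¹ = (x : Y) ^ (i * j) := by
    rw [show g * a * x * (g * a)⁻¹ = g * ((a : Y) * x * (a : Y)⁻¹) * g⁻¹ by group, hax', ← conj_pow,
      hi, pow_mul]
  have h1 := conj_pow_iter hi 4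
  have h2 := conj_pow_iter hgai 4
  rw [hfour g hgE, one_mul, inv_one, mul_one] at h1
  rw [hfour _ hga, one_mul, inv_one, mul_one, mul_pow, pow_mul, ← h1] at h2
  have h3 := conj_pow_iter hax' 4
  rw [← h2] at h3
  obtain ⟨k, hk⟩ := exists_pow_eq_self_of_coprime (n := 4) (x := (a : Y)) (by
    rw [Subgroup.orderOf_coe, show 4 = 2 ^ 2 by norm_num]
    exact (Nat.coprime_two_left.2 ha).pow_left 2)
  have h4 : Commute ((a : Y) ^ 4) (x : Y) := mul_inv_eq_iff_eq_mul.1 h3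
  have h5 : Commute (a : Y) (x : Y) := hk ▸ h4.pow_left k
  exact hne (Subtype.ext (by
    rw [Subgroup.coe_pow, ← hax', h5.eq, mul_inv_cancel_right]))

/-- A real element of odd order excludes an outer involution. -/
theorem false_of_outer_invol (hY : CIT Y) (hcore : Cfsg.pCore 2 Y = ⊥) {E : Subgroup Y}
    (hE : E.Normal) (hTO : TwoOver E) (hreal : ∀ x : E, ∃ s : E, s * x * s⁻¹ = x⁻¹) {v : Y}
    (hv : orderOf v = 2) (hvE : v ∉ E) : False := by
  obtain ⟨y, hy1, hyo, hvy⟩ := Involutions.exists_inverted_of_not_mem hv (by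
    rw [hcore, Subgroup.mem_bot]
    intro h
    rw [h, orderOf_one] at hv
    omega)
  obtain ⟨s, hs⟩ := hreal ⟨y, hTO.mem_of_odd hyo⟩
  have hs' : (s : Y) * y * (s : Y)⁻¹ = y⁻¹ := by simpa using congrArg (Subtype.val : E → Y) hs
  have hvv : v * v = 1 := by rw [← pow_two, ← hv]; exact pow_orderOf_eq_one v
  refine no_outer_commute hY (s := (s : Y) * v) (x := y)
    (fun hm => hvE (by simpa using mul_mem (inv_mem s.2) hm))
    (mul_sq_mem hE s.2 (by rw [hvv]; exact one_mem E)) hyo hy1 ?_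
  show (s : Y) * v * y = y * ((s : Y) * v)
  rw [← mul_inv_eq_iff_eq_mul]
  calc (s : Y) * v * y * ((s : Y) * v)⁻¹ = s * (v * y * v⁻¹) * (s : Y)⁻¹ := by group
    _ = _ := by rw [hvy, ← conj_inv, hs', inv_inv]

end CfsgLib.Recog.TwoR.Cons
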